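import Groth.Agent.Variety.K430.Frob
import Groth.Agent.MiscA.CurveH1E
import Groth.Agent.S7640
import Groth.Agent.CycB.FiniteFlat
import Groth.Agent.Grass.K652.LfRank
import Groth.Agent.CurvesC.DegIso
import Groth.Prelude.Def_CurvBase
import Groth.Prelude.Def_Curve

/-!
# Frobenius twists of a smooth proper curve over an algebraically closed field of characteristic `p`
-/

set_option autoImplicit false
set_option backward.isDefEq.respectTransparency false
universe u
open CategoryTheory CategoryTheory.Limits AlgebraicGeometry TopologicalSpace Opposite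

noncomputable section

namespace K354.FrobTw

/-- Twisting the structure morphism by an automorphism of the base field does not change the dimension of cohomology. -/
theorem finrank_eq {k : Type u} [Field k] {C : Scheme.{u}} (f1 f2 : C ⟶ Spec (CommRingCat.of k))
    (σ : k → k) (hσ : Function.Bijective σ)
    (h : ∀ a : k, Coh.toGlobal f2 a = Coh.toGlobal f1 (σ a))
    (F : C.Modules) (n : ℕ) :
    @Module.finrank k (Coh.HH C F n) _ _ (@Coh.moduleOver k _ C ⟨f2⟩ F n) =
      @Module.finrank k (Coh.HH C F n) _ _ (@Coh.moduleOver k _ C ⟨f1⟩ F n) := by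
  unfold Module.finrank
  congr 1
  refine @rank_eq_of_equiv_equiv k k (Coh.HH C F n) (Coh.HH C F n) _ _ (@Coh.moduleOver k _ C ⟨f2⟩ F n) _ _
    (@Coh.moduleOver k _ C ⟨f1⟩ F n) σ (AddEquiv.refl _) hσ ?_
  intro r m
  change (Coh.toGlobal f2 r) • m = (Coh.toGlobal f1 (σ r)) • m
  exact congrArg (fun t : Coh.Γtop C => t • m) (h r)

theorem euler_eq {k : Type u} [Field k] {C : Scheme.{u}} (f1 f2 : C ⟶ Spec (CommRingCat.of k))
    (σ : k → k) (hσ : Function.Bijective σ)
    (h : ∀ a : k, Coh.toGlobal f2 a = Coh.toGlobal f1 (σ a))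
    (F : C.Modules) : @Curv2.euler k _ C ⟨f2⟩ F = @Curv2.euler k _ C ⟨f1⟩ F := by
  unfold Curv2.euler
  refine finsum_congr fun n => ?_
  rw [finrank_eq f1 f2 σ hσ h F n]

section

variable {k : Type u} [Field k] [IsAlgClosed k] (p : ℕ) [Fact p.Prime] [CharP k p]

theorem isIso_frob_spec : IsIso (FrobSch.frob (Spec (CommRingCat.of k)) p) := by
  have h : FrobSch.frob (Spec (CommRingCat.of k)) p = Spec.map (CommRingCat.ofHom (frobenius k p)) := by
    refine ext_of_isAffine ?_
    refine CommRingCat.hom_ext (RingHom.ext fun s => ?_)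
    obtain ⟨a, rfl⟩ : ∃ a, (Scheme.ΓSpecIso (CommRingCat.of k)).inv.hom a = s :=
      ⟨(Scheme.ΓSpecIso (CommRingCat.of k)).hom.hom s, by simp⟩
    have h1 : (FrobSch.frob (Spec (CommRingCat.of k)) p).appTop.hom
      ((Scheme.ΓSpecIso (CommRingCat.of k)).inv.hom a) =
        ((Scheme.ΓSpecIso (CommRingCat.of k)).inv.hom a) ^ p := rfl
    have h2 := congrArg (fun t => CommRingCat.Hom.hom t a)
      (Scheme.ΓSpecIso_inv_naturality (CommRingCat.ofHom (frobenius k p)))
    refine h1.trans (Eq.trans ?_ h2)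
    change _ = (Scheme.ΓSpecIso (CommRingCat.of k)).inv.hom (frobenius k p a)
    rw [frobenius_def, map_pow]
  rw [h]
  have hb : Function.Bijective (frobenius k p) := PerfectRing.bijective_frobenius
  have : IsIso (CommRingCat.ofHom (frobenius k p)) :=
    (ConcreteCategory.isIso_iff_bijective _).mpr hb
  infer_instance

variable {C : Scheme.{u}} [C.Over (Spec (CommRingCat.of k))]

variable (k C) in
include k in
omit [IsAlgClosed k] [Fact p.Prime] in
theorem isCharP : FrobSch.IsCharP C p := FrobSch.IsCharP.of_hom (C ↘ Spec (CommRingCat.of k)) p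

/-- The absolute Frobenius of a smooth proper curve over an algebraically closed field is finite. -/
theorem isFinite_frob [FrobSch.IsCharP C p] [LocallyOfFiniteType (C ↘ Spec (CommRingCat.of k))] :
    IsFinite (FrobSch.frob C p) := by
  rw [IsFinite.iff_isIntegralHom_and_locallyOfFiniteType]
  refine ⟨K430.Frob.frob_isIntegralHom C p, ?_⟩
  have := isIso_frob_spec (k := k) p
  have h : LocallyOfFiniteType (FrobSch.frob C p ≫ (C ↘ Spec (CommRingCat.of k))) := by
    rw [FrobSch.frob_comp]; infer_instance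
  exact locallyOfFiniteType_of_comp (FrobSch.frob C p) (C ↘ Spec (CommRingCat.of k))

/-- A field element whose `p`-th power is a uniformizer cannot exist. -/
theorem not_pow_irreducible {R K : Type*} [CommRing R] [IsDomain R] [IsDiscreteValuationRing R] [Field K] [Algebra R K]
    [IsFractionRing R K] {p : ℕ} (hp : 2 ≤ p) (t : R) (ht : Irreducible t) (a : K) (h : a ^ p = algebraMap R K t) :
    False := by
  have hint : IsIntegral R a := by
    refine IsIntegral.of_pow (n := p) (by omega) ?_
    rw [h]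
    exact isIntegral_algebraMap
  obtain ⟨b, rfl⟩ := IsIntegrallyClosed.isIntegral_iff.mp hint
  rw [← map_pow] at h
  have h2 := IsFractionRing.injective R K h
  rw [← h2] at ht
  exact not_irreducible_pow (by omega) ht

theorem exists_ne_generic {C : Scheme.{u}} [IsIntegral C] (hdim : topologicalKrullDim C = 1) :
    ∃ x : C, x ≠ genericPoint C := by
  by_contra h
  have h : ∀ x : C, x = genericPoint C := fun x => by_contra fun hx => h ⟨x, hx⟩
  have : Subsingleton C := ⟨fun a b => (h a).trans (h b).symm⟩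
  have hs : Subsingleton (IrreducibleCloseds C) := ⟨fun a b => by
    apply IrreducibleCloseds.ext
    have h1 : (a : Set C) = Set.univ := Set.eq_univ_of_forall fun y => by
      obtain ⟨z, hz⟩ := a.isIrreducible.nonempty
      rwa [Subsingleton.elim y z]
    have h2 : (b : Set C) = Set.univ := Set.eq_univ_of_forall fun y => by
      obtain ⟨z, hz⟩ := b.isIrreducible.nonempty
      rwa [Subsingleton.elim y z]
    rw [h1, h2]⟩
  have h1 : topologicalKrullDim C ≤ 0 := Order.krullDim_nonpos_of_subsingleton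
  rw [hdim] at h1
  exact absurd h1 (by norm_num)

theorem two_le_residueDegree [FrobSch.IsCharP C p] [IsIntegral C]
    (hC : Curve.IsSmoothProperCurve k C (C ↘ Spec (CommRingCat.of k))) :
    2 ≤ (FrobSch.frob C p).residueDegree (genericPoint C) := by
  have hpr := hC.1
  have hf : IsFinite (FrobSch.frob C p) := isFinite_frob (k := k) p
  have hfin := Groth.Agent.CycB.FiniteFlat.residueFieldMap_finite (FrobSch.frob C p) (genericPoint C)
  have h0 : (FrobSch.frob C p).residueDegree (genericPoint C) ≠ 0 := by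
    unfold Scheme.Hom.residueDegree
    algebraize [((FrobSch.frob C p).residueFieldMap (genericPoint C)).hom]
    exact Module.finrank_pos.ne'
  have h1 : (FrobSch.frob C p).residueDegree (genericPoint C) ≠ 1 := by
    intro h1
    obtain ⟨x, hx⟩ := exists_ne_generic hC.2.2.2
    have hdvr := Groth.Agent.MiscA.CurveH1E.isDiscreteValuationRing_stalk (C ↘ Spec (CommRingCat.of k)) hC x hx
    obtain ⟨t, ht⟩ := IsDiscreteValuationRing.exists_irreducible (C.presheaf.stalk x)
    have hsurj : Function.Surjective ((FrobSch.frob C p).residueFieldMap (genericPoint C)).hom := by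
      unfold Scheme.Hom.residueDegree at h1
      algebraize [((FrobSch.frob C p).residueFieldMap (genericPoint C)).hom]
      exact Algebra.surjective_algebraMap_iff.mpr (Subalgebra.bot_eq_top_of_finrank_eq_one h1).symm
    obtain ⟨a, ha⟩ := hsurj (C.residue (genericPoint C) (algebraMap (C.presheaf.stalk x) C.functionField t))
    obtain ⟨a', ha'⟩ := C.residue_surjective (genericPoint C) a
    have h2 := K430.Frob.frob_residueFieldMap C p (genericPoint C) a
    have h3 : (C.residue (genericPoint C)).hom ((a' : C.functionField) ^ p) =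
        (C.residue (genericPoint C)).hom (algebraMap (C.presheaf.stalk x) C.functionField t) := by
      rw [map_pow]
      exact (congrArg (fun z : C.residueField (genericPoint C) => z ^ p) ha').trans (h2.symm.trans ha)
    have h4 := (C.residue (genericPoint C)).hom.injective h3
    exact not_pow_irreducible (Fact.out : p.Prime).two_le t ht a' h4
  omega

end

variable (k : Type u) [Field k]

/-- The properties of a (power of the) Frobenius twist `φ : C' ⟶ C`. -/
def IsTwist (C C' : Scheme.{u}) [C.Over (Spec (CommRingCat.of k))] [C'.Over (Spec (CommRingCat.of k))] (φ : C' ⟶ C)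
    (q : ℕ) : Prop :=
  Curve.IsSmoothProperCurve k C' (C' ↘ Spec (CommRingCat.of k)) ∧
      φ ≫ (C ↘ Spec (CommRingCat.of k)) = C' ↘ Spec (CommRingCat.of k) ∧
      Function.Bijective φ.base ∧
      Curv2.euler k C' (Coh.structureModule C') = Curv2.euler k C (Coh.structureModule C) ∧
      ∀ (n : ℕ) (M : C.Modules), FlatMod.IsFinLocFreeOfRank n M →
        Curv2.deg k C' ((Scheme.Modules.pullback φ).obj M) n = q * Curv2.deg k C M n

theorem exists_step [IsAlgClosed k] (p : ℕ) [Fact p.Prime] [CharP k p]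
    (C : Scheme.{u}) [C.Over (Spec (CommRingCat.of k))]
    (hC : Curve.IsSmoothProperCurve k C (C ↘ Spec (CommRingCat.of k))) :
    ∃ (C' : Scheme.{u}) (_ : C'.Over (Spec (CommRingCat.of k))) (φ : C' ⟶ C) (q : ℕ), 2 ≤ q ∧ IsTwist k C C' φ q := by
  have hchar : FrobSch.IsCharP C p := isCharP k p C
  obtain ⟨h1, h2, h3, h4⟩ := id hC
  have hiso := isIso_frob_spec (k := k) p
  have hcurve : Curve.IsSmoothProperCurve k C (FrobSch.frob C p ≫ (C ↘ Spec (CommRingCat.of k))) := by
    rw [FrobSch.frob_comp]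
    exact ⟨inferInstance, inferInstance, h3, h4⟩
  refine ⟨C, ⟨FrobSch.frob C p ≫ (C ↘ Spec (CommRingCat.of k))⟩, FrobSch.frob C p,
    (FrobSch.frob C p).residueDegree (genericPoint C), two_le_residueDegree p hC, hcurve, rfl,
    Function.bijective_id, ?_, ?_⟩
  · refine euler_eq (C ↘ Spec (CommRingCat.of k)) (FrobSch.frob C p ≫ (C ↘ Spec (CommRingCat.of k)))
      (frobenius k p) PerfectRing.bijective_frobenius ?_ _
    intro a
    rw [frobenius_def, map_pow]
    rfl
  · intro n M hM
    exact @Groth.Agent.S7640.result k _ C C ⟨FrobSch.frob C p ≫ (C ↘ Spec (CommRingCat.of k))⟩ _ h3 h3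
      hcurve.1 h1 h4 h4 (FrobSch.frob C p) rfl rfl n M hM

theorem isFinLocFreeOfRank_pullback {X Y : Scheme.{u}} (f : X ⟶ Y) {n : ℕ} {M : Y.Modules}
    (hM : FlatMod.IsFinLocFreeOfRank n M) :
    FlatMod.IsFinLocFreeOfRank n ((Scheme.Modules.pullback f).obj M) :=
  K652.LfRank.pullback f hM

theorem deg_congr {C : Scheme.{u}} [C.Over (Spec (CommRingCat.of k))] {M N : C.Modules} (e : M ≅ N) (n : ℕ) :
    Curv2.deg k C M n = Curv2.deg k C N n :=
  Groth.Agent.CurvesC.DegIso.deg_congr k e n

theorem IsTwist.comp {C C' C'' : Scheme.{u}} [C.Over (Spec (CommRingCat.of k))] [C'.Over (Spec (CommRingCat.of k))]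
    [C''.Over (Spec (CommRingCat.of k))] {φ : C' ⟶ C} {q : ℕ} {ψ : C'' ⟶ C'} {q' : ℕ}
    (h : IsTwist k C C' φ q) (h' : IsTwist k C' C'' ψ q') : IsTwist k C C'' (ψ ≫ φ) (q' * q) := by
  refine ⟨h'.1, ?_, ?_, h'.2.2.2.1.trans h.2.2.2.1, ?_⟩
  · rw [Category.assoc, h.2.1, h'.2.1]
  · rw [Scheme.Hom.comp_base]
    exact h.2.2.1.comp h'.2.2.1
  · intro n M hM
    rw [deg_congr k ((Scheme.Modules.pullbackComp ψ φ).symm.app M) n, Functor.comp_obj,
      h'.2.2.2.2 n _ (isFinLocFreeOfRank_pullback φ hM), h.2.2.2.2 n M hM]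
    push_cast
    ring

theorem exists_twist [IsAlgClosed k] (p : ℕ) [Fact p.Prime] [CharP k p]
    (C : Scheme.{u}) [C.Over (Spec (CommRingCat.of k))]
    (hC : Curve.IsSmoothProperCurve k C (C ↘ Spec (CommRingCat.of k))) (Q : ℕ) :
    ∃ (C' : Scheme.{u}) (_ : C'.Over (Spec (CommRingCat.of k))) (φ : C' ⟶ C) (q : ℕ),
      Curve.IsSmoothProperCurve k C' (C' ↘ Spec (CommRingCat.of k)) ∧
      φ ≫ (C ↘ Spec (CommRingCat.of k)) = C' ↘ Spec (CommRingCat.of k) ∧
      Function.Bijective φ.base ∧ Q ≤ q ∧
      Curv2.euler k C' (Coh.structureModule C') = Curv2.euler k C (Coh.structureModule C) ∧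
      ∀ (n : ℕ) (M : C.Modules), FlatMod.IsFinLocFreeOfRank n M →
        Curv2.deg k C' ((Scheme.Modules.pullback φ).obj M) n = q * Curv2.deg k C M n := by
  suffices H : ∃ (C' : Scheme.{u}) (_ : C'.Over (Spec (CommRingCat.of k))) (φ : C' ⟶ C) (q : ℕ),
      Q < q ∧ IsTwist k C C' φ q by
    obtain ⟨C', i, φ, q, h1, h2, h3, h4, h5, h6⟩ := H
    exact ⟨C', i, φ, q, h2, h3, h4, h1.le, h5, h6⟩
  induction Q with
  | zero =>
    obtain ⟨C', i, φ, q, h1, h2⟩ := exists_step k p C hC
    exact ⟨C', i, φ, q, by omega, h2⟩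
  | succ Q ih =>
    obtain ⟨C', i, φ, q, h1, h2⟩ := ih
    obtain ⟨C'', i', ψ, q', h1', h2'⟩ := exists_step k p C' h2.1
    exact ⟨C'', i', ψ ≫ φ, q' * q, by nlinarith, h2.comp k h2'⟩

end K354.FrobTw
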