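import Groth.Agent.Curves.K354.VanPt
import Groth.Agent.RatCurv.K888.Domain

/-!
# Rational maps to a closed subscheme of projective space given by homogeneous coordinates in the function field
-/

set_option autoImplicit false
set_option backward.isDefEq.respectTransparency false
universe u
open CategoryTheory CategoryTheory.Limits AlgebraicGeometry TopologicalSpace Opposite TensorProduct

noncomputable section

namespace K354.FamDom

open K756.FamDef K354.StkHom K354.VanPt

attribute [local instance] Curv2.stalkAlgebra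

theorem isDominant_spec_map {B B' : Type u} [CommRing B] [CommRing B'] (φ : B →+* B') (hφ : Function.Injective φ)
    : IsDominant (Spec.map (CommRingCat.ofHom φ)) := by
  apply isDominant_of_of_appTop_injective
  have h1 := Scheme.ΓSpecIso_naturality (CommRingCat.ofHom φ)
  have h2 : (Spec.map (CommRingCat.ofHom φ)).appTop =
    (Scheme.ΓSpecIso _).hom ≫ CommRingCat.ofHom φ ≫ (Scheme.ΓSpecIso _).inv := by
    rw [← Category.assoc, ← h1, Category.assoc, Iso.hom_inv_id, Category.comp_id]
  rw [h2]
  have e1 := ((ConcreteCategory.isIso_iff_bijective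
    (Scheme.ΓSpecIso (CommRingCat.of B)).hom).1 inferInstance).1
  have e2 := ((ConcreteCategory.isIso_iff_bijective
    (Scheme.ΓSpecIso (CommRingCat.of B')).inv).1 inferInstance).1
  intro x y hxy
  simp only [CommRingCat.comp_apply] at hxy
  exact e1 (hφ (e2 hxy))

section Dom

variable {k : Type u} [Field k] {S : Scheme.{u}} (pS : S ⟶ Spec (CommRingCat.of k)) [IsIntegral S]
  {Y : Scheme.{u}} (pY : Y ⟶ Spec (CommRingCat.of k)) [IsSeparated pY] [LocallyOfFiniteType pY]

/-- The maximal domain of a rational map given by a morphism from the spectrum of the function field. -/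
theorem exists_domain' (m : Spec S.functionField ⟶ Y) (hm : m ≫ pY = S.fromSpecStalk (genericPoint S) ≫ pS) :
    ∃ (D : S.Opens) (g : (D : Scheme.{u}) ⟶ Y), g ≫ pY = D.ι ≫ pS ∧
      (∀ x : S, (∃ l : Spec (S.presheaf.stalk x) ⟶ Y,
        Spec.map (CommRingCat.ofHom (algebraMap (S.presheaf.stalk x) S.functionField)) ≫ l = m) → x ∈ D) ∧
      ∀ (x : S) (hx : x ∈ D),
        Spec.map (CommRingCat.ofHom (algebraMap (S.presheaf.stalk x) S.functionField)) ≫
          D.fromSpecStalkOfMem x hx ≫ g = m := by
  let f₀ : S.PartialMap Y := Scheme.PartialMap.ofFromSpecStalk pS pY m hm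
  have hmem : genericPoint S ∈ f₀.domain := Scheme.PartialMap.mem_domain_ofFromSpecStalk pS pY m hm
  have hU : (f₀.domain : Set S).Nonempty := ⟨_, hmem⟩
  have hgen : K888.ExtCrit.gen f₀.domain hU f₀.hom = m :=
    Scheme.PartialMap.fromSpecStalkOfMem_ofFromSpecStalk pS pY m hm
  obtain ⟨D, hUD, g, hg, hres, hD⟩ := K888.Domain.exists_domain pS pY f₀.domain hU f₀.hom
    (Scheme.PartialMap.ofFromSpecStalk_comp pS pY m hm)
  rw [hgen] at hD
  refine ⟨D, g, hg, hD, fun x hx => ?_⟩
  have h1 : Spec.map (CommRingCat.ofHom (algebraMap (S.presheaf.stalk x) S.functionField)) ≫ D.fromSpecStalkOfMem x hx =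
      f₀.domain.fromSpecStalkOfMem (genericPoint S) hmem ≫ S.homOfLE hUD := by
    rw [← cancel_mono D.ι, Category.assoc, Category.assoc, Scheme.Opens.fromSpecStalkOfMem_ι, Scheme.homOfLE_ι,
      Scheme.Opens.fromSpecStalkOfMem_ι]
    exact Scheme.SpecMap_stalkSpecializes_fromSpecStalk (genericPoint_specializes x)
  rw [← Category.assoc, h1, Category.assoc, hres, ← hgen]
  rfl

end Dom

section Main

variable (k : Type u) [Field k] {X : Scheme.{u}} [X.Over (Spec (CommRingCat.of k))] [IsIntegral X]
    {N : ℕ} (ι : X ⟶ CohB1.ProjSpace N k) [IsClosedImmersion ι]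
    (hι : ι ≫ CohB1.ProjSpace.toSpec N k = X ↘ Spec (CommRingCat.of k))
    {P : Scheme.{u}} [P.Over (Spec (CommRingCat.of k))] [IsIntegral P]

include hι in
/-- The rational map with homogeneous coordinates `S` in the function field: it is defined at every point with
coordinates without common zero in the local ring. -/
theorem exists_map (S : Fin (N + 1) → P.functionField) (i₀ : Fin (N + 1)) (hi₀ : IsUnit (S i₀))
    (hX : ∀ G ∈ Van k ι, MvPolynomial.aeval S G = 0) :
    ∃ (D : P.Opens) (g : (D : Scheme.{u}) ⟶ X), g ≫ (X ↘ Spec (CommRingCat.of k)) = D.ι ≫ (P ↘ Spec (CommRingCat.of k)) ∧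
      ∀ (x : P) (w : Fin (N + 1) → P.presheaf.stalk x) (v : P.functionField) (i : Fin (N + 1)) (hi : IsUnit (w i)),
        (∀ l, S l = v * algebraMap (P.presheaf.stalk x) P.functionField (w l)) →
        ∃ hx : x ∈ D, D.fromSpecStalkOfMem x hx ≫ g ≫ ι = K329.Pt.pt k w i hi := by
  have hprop : IsProper (CohB1.ProjSpace.toSpec N k) := Groth.Agent.VarietyB.ProjSpaceProper.isProper_toSpec N k
  have hXs : IsSeparated (X ↘ Spec (CommRingCat.of k)) := by rw [← hι]; infer_instance
  have hXf : LocallyOfFiniteType (X ↘ Spec (CommRingCat.of k)) := by rw [← hι]; infer_instance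
  obtain ⟨m, hm⟩ := exists_lift_of_van k ι S i₀ hi₀ hX
  have hmk : m ≫ (X ↘ Spec (CommRingCat.of k)) = P.fromSpecStalk (genericPoint P) ≫ (P ↘ Spec (CommRingCat.of k)) := by
    rw [← hι, ← Category.assoc, hm, K329.Pt.pt_toSpec]
    exact spec_algebraMap P (genericPoint P)
  obtain ⟨D, g, hg, hD, hgm⟩ := exists_domain' (P ↘ Spec (CommRingCat.of k)) (X ↘ Spec (CommRingCat.of k)) m hmk
  refine ⟨D, g, hg, fun x w v i hi hS => ?_⟩
  have hv : IsUnit v := by
    rw [isUnit_iff_ne_zero]
    rintro rfl
    rw [hS i₀, zero_mul] at hi₀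
    exact hi₀.ne_zero rfl
  have hgen : Spec.map (CommRingCat.ofHom (spAlg k P x : P.presheaf.stalk x →+* P.functionField)) ≫
      K329.Pt.pt k w i hi = m ≫ ι := by
    rw [hm, K329.Pt.map_pt]
    exact (K329.Pt.pt_smul k v hv (fun l => spAlg k P x (w l)) i (hi.map (spAlg k P x)) S hS i₀ hi₀).symm
  have hdom : IsDominant (Spec.map (CommRingCat.ofHom (spAlg k P x : P.presheaf.stalk x →+* P.functionField))) :=
    isDominant_spec_map _ (IsFractionRing.injective (P.presheaf.stalk x) P.functionField)
  have hx : x ∈ D := by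
    apply hD
    obtain ⟨l, hl⟩ := exists_lift_of_dominant ι (K329.Pt.pt k w i hi)
      (Spec.map (CommRingCat.ofHom (spAlg k P x : P.presheaf.stalk x →+* P.functionField))) m hgen.symm
    refine ⟨l, ?_⟩
    rw [← cancel_mono ι, Category.assoc, hl]
    exact hgen
  refine ⟨hx, ?_⟩
  apply K329.Pt.eq_pt_of_injective k (spAlg k P x) (IsFractionRing.injective (P.presheaf.stalk x) P.functionField)
  · rw [Category.assoc, Category.assoc, hι, hg, Scheme.Opens.fromSpecStalkOfMem_ι_assoc]
    exact (spec_algebraMap P x).symm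
  · rw [← K329.Pt.map_pt k _ w i hi, hgen, ← hgm x hx, Category.assoc, Category.assoc]
    rfl

end Main

end K354.FamDom
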