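import Groth.Agent.Curves.K354.FamMap
import Groth.Prelude.Def_Curve

/-!
# Node 2 of the plan of helper756: from a tuple of functions with parameters to a family of morphisms
-/

set_option autoImplicit false
set_option backward.isDefEq.respectTransparency false
universe u
open CategoryTheory CategoryTheory.Limits AlgebraicGeometry TopologicalSpace Opposite TensorProduct

noncomputable section

namespace K354.FamEx

open K756.FamDef K354.StkHom K354.VanPt K354.FamDom K354.FamProd K354.FamMap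

attribute [local instance] Curv2.stalkAlgebra

theorem isUnit_ta {k : Type u} [Field k] {Y : Scheme.{u}} [Y.Over (Spec (CommRingCat.of k))]
    {A : Type u} [CommRing A] [Algebra k A] (v : Y ⟶ Spec (CommRingCat.of A))
    (hv : v ≫ Spec.map (CommRingCat.ofHom (algebraMap k A)) = Y ↘ Spec (CommRingCat.of k)) (y : Y) (a : A)
    (ha : v y ∈ (PrimeSpectrum.basicOpen a : Set (PrimeSpectrum A))) : IsUnit (ta v hv y a) := by
  by_contra hcon
  have h1 : ta v hv y a ∈ IsLocalRing.maximalIdeal (Y.presheaf.stalk y) := hcon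
  have h2 : v y = Spec.map (CommRingCat.ofHom (ta v hv y : A →+* Y.presheaf.stalk y))
      (IsLocalRing.closedPoint (Y.presheaf.stalk y)) := by
    rw [spec_ta, Scheme.Hom.comp_apply]
    exact (congrArg v Scheme.fromSpecStalk_closedPoint).symm
  rw [h2] at ha
  exact ha h1

section Opens

variable {k : Type u} [Field k] {C : Scheme.{u}} [C.Over (Spec (CommRingCat.of k))]
  [IsProper (C ↘ Spec (CommRingCat.of k))] {A : Type u} [CommRing A] [Algebra k A] (ε : A →ₐ[k] k)

theorem exists_open (D : (PA k C A).Opens) (hD : ∀ z : C, sε k C ε z ∈ D) :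
    ∃ U : (Spec (CommRingCat.of A)).Opens, tε k ε ∈ U ∧ ∀ y : PA k C A, pv k C A y ∈ U → y ∈ D := by
  have hp : IsProper (pv k C A) := MorphismProperty.of_isPullback (isPullback k C A) ‹_›
  have hcl : IsClosedMap (pv k C A) := (pv k C A).isClosedMap
  refine ⟨⟨(pv k C A '' (D : Set (PA k C A))ᶜ)ᶜ, (hcl _ D.2.isClosed_compl).isOpen_compl⟩, ?_, ?_⟩
  · rintro ⟨y, hy, hy'⟩
    obtain ⟨z, rfl⟩ := mem_range_sε k C ε y hy'
    exact hy (hD z)
  · intro y hy
    by_contra hcon
    exact hy ⟨y, hcon, rfl⟩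

end Opens

theorem eval_ne_zero {k : Type u} [Field k] {R : Type u} [CommRing R] [IsLocalRing R] [Algebra k R]
    {A : Type u} [CommRing A] [Algebra k A] (ε : A →ₐ[k] k) (b : R) (hb : IsUnit b) (w : R ⊗[k] A) (a : A)
    (hw : evA k R ε w = b) (ha : w - b ⊗ₜ[k] a ∈ (IsLocalRing.maximalIdeal R).map
      (Algebra.TensorProduct.includeLeft : R →ₐ[k] R ⊗[k] A)) : ε a ≠ 0 := by
  intro h0
  have h1 : (IsLocalRing.maximalIdeal R).map (Algebra.TensorProduct.includeLeft : R →ₐ[k] R ⊗[k] A) ≤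
      (IsLocalRing.maximalIdeal R).comap (evA k R ε) := by
    rw [Ideal.map_le_iff_le_comap]
    intro m hm
    rw [Ideal.mem_comap, Ideal.mem_comap]
    change evA k R ε (m ⊗ₜ (1 : A)) ∈ _
    rw [evA_tmul, map_one, one_smul]
    exact hm
  have h2 := h1 ha
  rw [Ideal.mem_comap, map_sub, evA_tmul, h0, zero_smul, sub_zero, hw] at h2
  exact h2 hb

theorem tε_mem {k : Type u} [Field k] {A : Type u} [CommRing A] [Algebra k A] (ε : A →ₐ[k] k) (a : A) (ha : ε a ≠ 0) :
    tε k ε ∈ (PrimeSpectrum.basicOpen a : Set (PrimeSpectrum A)) := by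
  intro h
  have h1 : ε a ∈ IsLocalRing.maximalIdeal k := h
  exact h1 (isUnit_iff_ne_zero.mpr ha)

theorem exists_family (k : Type u) [Field k] [IsAlgClosed k]
    (X : Scheme.{u}) [X.Over (Spec (CommRingCat.of k))] [IsIntegral X]
    (N : ℕ) (ι : X ⟶ CohB1.ProjSpace N k) [IsClosedImmersion ι]
    (hι : ι ≫ CohB1.ProjSpace.toSpec N k = X ↘ Spec (CommRingCat.of k))
    (C : Scheme.{u}) [C.Over (Spec (CommRingCat.of k))] [IsIntegral C]
    (hC : Curve.IsSmoothProperCurve k C (C ↘ Spec (CommRingCat.of k)))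
    (f : C ⟶ X) (hf : f ≫ (X ↘ Spec (CommRingCat.of k)) = C ↘ Spec (CommRingCat.of k))
    (A : Type u) [CommRing A] [IsDomain A] [Algebra k A] [Algebra.FiniteType k A] (hA : ringKrullDim A = 1)
    (ε : A →ₐ[k] k) (B : Finset C) (hB : ∀ b ∈ B, IsClosed ({b} : Set C))
    (S : Fin (N + 1) → C.functionField ⊗[k] A)
    (hloc : ∀ z : C, ∃ (c : C.functionField) (b : Fin (N + 1) → C.presheaf.stalk z)
      (w : Fin (N + 1) → C.presheaf.stalk z ⊗[k] A), c ≠ 0 ∧ IsCoord k (f ≫ ι) z b ∧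
        (∀ l, evA k (C.presheaf.stalk z) ε (w l) = b l) ∧ (∀ l, S l = (c ⊗ₜ[k] (1 : A)) * extA k A C z (w l)) ∧
        (z ∈ B → ∃ a : A, ∀ l, w l - b l ⊗ₜ[k] a ∈
          (IsLocalRing.maximalIdeal (C.presheaf.stalk z)).map
            (Algebra.TensorProduct.includeLeft : C.presheaf.stalk z →ₐ[k] C.presheaf.stalk z ⊗[k] A)))
    (hX : ∀ G ∈ Van k ι, MvPolynomial.aeval S G = 0)
    (s : Fin (N + 1) → C.functionField) (hs : IsCoord k (f ≫ ι) (genericPoint C) s)
    (hne : ∃ l m, S l * (s m ⊗ₜ[k] (1 : A)) ≠ S m * (s l ⊗ₜ[k] (1 : A))) :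
    ∃ (T : Scheme.{u}) (_ : T.Over (Spec (CommRingCat.of k))) (t₀ : Spec (CommRingCat.of k) ⟶ T)
      (F : Limits.pullback (C ↘ Spec (CommRingCat.of k)) (T ↘ Spec (CommRingCat.of k)) ⟶ X)
      (s : C ⟶ Limits.pullback (C ↘ Spec (CommRingCat.of k)) (T ↘ Spec (CommRingCat.of k))),
      IsIntegral T ∧ IsSeparated (T ↘ Spec (CommRingCat.of k)) ∧ LocallyOfFiniteType (T ↘ Spec (CommRingCat.of k)) ∧
      CompactSpace T ∧ topologicalKrullDim T = 1 ∧ t₀ ≫ (T ↘ Spec (CommRingCat.of k)) = 𝟙 _ ∧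
      F ≫ (X ↘ Spec (CommRingCat.of k)) =
        Limits.pullback.fst (C ↘ Spec (CommRingCat.of k)) (T ↘ Spec (CommRingCat.of k)) ≫
          (C ↘ Spec (CommRingCat.of k)) ∧
      s ≫ Limits.pullback.fst (C ↘ Spec (CommRingCat.of k)) (T ↘ Spec (CommRingCat.of k)) = 𝟙 C ∧
      s ≫ Limits.pullback.snd (C ↘ Spec (CommRingCat.of k)) (T ↘ Spec (CommRingCat.of k)) =
        (C ↘ Spec (CommRingCat.of k)) ≫ t₀ ∧ f = s ≫ F ∧
      (∀ b ∈ B, ∀ z : ↥(Limits.pullback (C ↘ Spec (CommRingCat.of k)) (T ↘ Spec (CommRingCat.of k))),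
        (Limits.pullback.fst (C ↘ Spec (CommRingCat.of k)) (T ↘ Spec (CommRingCat.of k))).base z = b →
          F.base z = f.base b) ∧
      ¬ ∃ h : C ⟶ X, F = Limits.pullback.fst (C ↘ Spec (CommRingCat.of k)) (T ↘ Spec (CommRingCat.of k)) ≫ h := by
  have hCp := hC.1
  have hint : IsIntegral (PA k C A) := isIntegral_PA k C A
  have hdat : ∀ z : C, ∃ c b w, IsDat k ι f ε S z c b w := fun z => by
    obtain ⟨c, b, w, h1, h2, h3, h4, -⟩ := hloc z
    exact ⟨c, b, w, h1, h2, h3, h4⟩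
  obtain ⟨D, g, hg, hval⟩ := exists_fam_map hι hdat hX
  obtain ⟨U₀, htU₀, hU₀⟩ := exists_open ε D (sε_mem D g hval hdat)
  -- shrinking so that the fixed points are fixed
  obtain ⟨U, htU, hU, hUB⟩ : ∃ U : (Spec (CommRingCat.of A)).Opens, tε k ε ∈ U ∧
      (∀ y : PA k C A, pv k C A y ∈ U → y ∈ D) ∧ ∀ b ∈ B, ∀ (y : PA k C A) (hy : y ∈ D),
        pu k C A y = b → pv k C A y ∈ U → g ⟨y, hy⟩ = f b := by
    have key : ∀ B' : Finset C, B' ⊆ B → ∃ U : (Spec (CommRingCat.of A)).Opens, tε k ε ∈ U ∧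
      (∀ y : PA k C A, pv k C A y ∈ U → y ∈ D) ∧ ∀ b ∈ B', ∀ (y : PA k C A) (hy : y ∈ D),
        pu k C A y = b → pv k C A y ∈ U → g ⟨y, hy⟩ = f b := by
      classical
      intro B'
      induction B' using Finset.induction_on with
      | empty => exact fun _ => ⟨U₀, htU₀, hU₀, fun b hb => absurd hb (Finset.notMem_empty b)⟩
      | insert b B' hb ih =>
        intro hBB
        obtain ⟨U', h1, h2, h3⟩ := ih fun x hx => hBB (Finset.mem_insert_of_mem hx)
        obtain ⟨c, β, w, hc, hβ, hev, hS, ha⟩ := hloc b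
        obtain ⟨a, ha⟩ := ha (hBB (Finset.mem_insert_self b B'))
        have hεa : ε a ≠ 0 := by
          obtain ⟨j, hj, -⟩ := hβ
          exact eval_ne_zero ε (β j) hj (w j) a (hev j) (ha j)
        refine ⟨U' ⊓ PrimeSpectrum.basicOpen a, ⟨h1, tε_mem ε a hεa⟩, fun y hy => h2 y hy.1, ?_⟩
        intro b' hb' y hy hyb hyU
        rcases Finset.mem_insert.mp hb' with rfl | hb'
        · obtain ⟨_, h4⟩ := value_fixed D g hval ⟨hc, hβ, hev, hS⟩ a ha y hyb
            (isUnit_ta (pv k C A) (pv_over k C A) y a hyU.2)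
          exact h4
        · exact h3 b' hb' y hy hyb hyU.1
    exact key B subset_rfl
  have hne' : Nonempty U := ⟨⟨_, htU⟩⟩
  have hAlft : LocallyOfFiniteType (sA k A) := by
    rw [sA, HasRingHomProperty.Spec_iff (P := @LocallyOfFiniteType)]
    exact (RingHom.finiteType_algebraMap).mpr ‹_›
  have hAsep : IsSeparated (sA k A) := by rw [sA]; infer_instance
  have hnoeth : IsNoetherianRing A := Algebra.FiniteType.isNoetherianRing k A
  let T : Scheme.{u} := U
  let iT : T.Over (Spec (CommRingCat.of k)) := ⟨U.ι ≫ sA k A⟩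
  have hT : T ↘ Spec (CommRingCat.of k) = U.ι ≫ sA k A := rfl
  -- the point
  have ht₀ : Set.range (Spec.map (CommRingCat.ofHom (ε : A →+* k))) ⊆ Set.range U.ι := by
    rintro _ ⟨x, rfl⟩
    have hx : x = IsLocalRing.closedPoint k := Subsingleton.elim _ _
    rw [hx, Scheme.Opens.range_ι]
    exact htU
  let t₀ : Spec (CommRingCat.of k) ⟶ T := IsOpenImmersion.lift U.ι (Spec.map (CommRingCat.ofHom (ε : A →+* k))) ht₀
  have ht₀' : t₀ ≫ U.ι = Spec.map (CommRingCat.ofHom (ε : A →+* k)) := IsOpenImmersion.lift_fac _ _ _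
  have ht₀k : t₀ ≫ (T ↘ Spec (CommRingCat.of k)) = 𝟙 _ := by
    rw [hT, ← Category.assoc, ht₀', spec_ε]
  let PT : Scheme.{u} := pullback (C ↘ Spec (CommRingCat.of k)) (T ↘ Spec (CommRingCat.of k))
  let a₁ : PT ⟶ C := pullback.fst _ _
  let a₂ : PT ⟶ T := pullback.snd _ _
  have hw : a₁ ≫ (C ↘ Spec (CommRingCat.of k)) = a₂ ≫ (T ↘ Spec (CommRingCat.of k)) := pullback.condition
  let j : PT ⟶ PA k C A := (isPullback k C A).lift a₁ (a₂ ≫ U.ι) (by rw [hw, hT, Category.assoc])
  have hj1 : j ≫ pu k C A = a₁ := (isPullback k C A).lift_fst _ _ _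
  have hj2 : j ≫ pv k C A = a₂ ≫ U.ι := (isPullback k C A).lift_snd _ _ _
  have hjr : Set.range j ⊆ Set.range D.ι := by
    rintro _ ⟨x, rfl⟩
    rw [Scheme.Opens.range_ι]
    apply hU
    rw [← Scheme.Hom.comp_apply, hj2, Scheme.Hom.comp_apply]
    exact (a₂ x).2
  let j' : PT ⟶ (D : Scheme.{u}) := IsOpenImmersion.lift D.ι j hjr
  have hj' : j' ≫ D.ι = j := IsOpenImmersion.lift_fac _ _ _
  let s₀ : C ⟶ PT := pullback.lift (𝟙 C) ((C ↘ Spec (CommRingCat.of k)) ≫ t₀) (by
    rw [Category.id_comp, Category.assoc, ht₀k, Category.comp_id])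
  have hs1 : s₀ ≫ a₁ = 𝟙 C := pullback.lift_fst _ _ _
  have hs2 : s₀ ≫ a₂ = (C ↘ Spec (CommRingCat.of k)) ≫ t₀ := pullback.lift_snd _ _ _
  have hsj : s₀ ≫ j = sε k C ε := by
    apply (isPullback k C A).hom_ext
    · rw [Category.assoc, hj1, hs1, sε_pu]
    · rw [Category.assoc, hj2, ← Category.assoc, hs2, Category.assoc, ht₀', sε_pv]
  have hfs : f = s₀ ≫ j' ≫ g := by
    rw [← Category.assoc]
    exact (section_comp hι hf D g hg hval hdat (s₀ ≫ j') (by rw [Category.assoc, hj', hsj])).symm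
  refine ⟨T, iT, t₀, j' ≫ g, s₀, isIntegral_of_isOpenImmersion U.ι, ?_, ?_, ?_, ?_, ht₀k, ?_, hs1, hs2, hfs, ?_, ?_⟩
  · rw [hT]; infer_instance
  · rw [hT]; infer_instance
  · have h1 : NoetherianSpace (Spec (CommRingCat.of A)) := inferInstanceAs (NoetherianSpace (PrimeSpectrum A))
    exact isCompact_iff_compactSpace.mp (NoetherianSpace.isCompact (U : Set (Spec (CommRingCat.of A))))
  · let _ : (Spec (CommRingCat.of A)).Over (Spec (CommRingCat.of k)) := ⟨sA k A⟩
    have h1 : LocallyOfFiniteType (Spec (CommRingCat.of A) ↘ Spec (CommRingCat.of k)) := hAlft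
    have h2 : IrreducibleSpace (Spec (CommRingCat.of A)) := inferInstance
    have h3 := Groth.Agent.S1618.result k (Spec (CommRingCat.of A)) U ⟨_, htU⟩
    have h4 : topologicalKrullDim (Spec (CommRingCat.of A)) = 1 :=
      (PrimeSpectrum.topologicalKrullDim_eq_ringKrullDim A).trans hA
    exact h3.trans h4
  · rw [Category.assoc, hg, ← Category.assoc, hj', ← pu_over, ← Category.assoc, hj1]
  · intro b hb z hz
    have h1 : j z ∈ D := by
      have : j z ∈ Set.range D.ι := hjr ⟨z, rfl⟩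
      rwa [Scheme.Opens.range_ι] at this
    have h2 : j' z = ⟨j z, h1⟩ := by
      apply Subtype.ext
      have h3 : D.ι (j' z) = j z := by rw [← Scheme.Hom.comp_apply, hj']
      exact h3
    have h3 : g ⟨j z, h1⟩ = f b := by
      apply hUB b hb
      · rw [← Scheme.Hom.comp_apply, hj1]
        exact hz
      · rw [← Scheme.Hom.comp_apply, hj2, Scheme.Hom.comp_apply]
        exact (a₂ z).2
    have h4 : (j' ≫ g) z = g (j' z) := Scheme.Hom.comp_apply _ _ _
    rw [h2, h3] at h4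
    exact h4
  · rintro ⟨h, hh⟩
    have hhf : h = f := by
      rw [hfs, hh, ← Category.assoc]
      exact ((congrArg (· ≫ h) hs1).trans (Category.id_comp h)).symm
    rw [hhf] at hh
    let _ : PT.Over (Spec (CommRingCat.of k)) := ⟨a₁ ≫ (C ↘ Spec (CommRingCat.of k))⟩
    have hu' : (j ≫ pu k C A) ≫ (C ↘ Spec (CommRingCat.of k)) = PT ↘ Spec (CommRingCat.of k) := by
      rw [hj1]
      rfl
    have hjo : j ≫ (PA k C A ↘ Spec (CommRingCat.of k)) = PT ↘ Spec (CommRingCat.of k) := by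
      rw [← pu_over, ← Category.assoc]
      exact hu'
    have hTint : IsIntegral T := isIntegral_of_isOpenImmersion U.ι
    have hjopen : IsOpenImmersion j := by
      have h1 : IsPullback (j ≫ pu k C A) a₂ (C ↘ Spec (CommRingCat.of k)) (U.ι ≫ sA k A) := by
        rw [hj1]
        exact IsPullback.of_hasPullback _ _
      have h2 : IsPullback j a₂ (pv k C A) U.ι := IsPullback.of_right h1 hj2 (isPullback k C A)
      exact MorphismProperty.of_isPullback h2.flip inferInstance
    have hPTne : Nonempty PT := ⟨s₀ (genericPoint C)⟩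
    have hPTint : IsIntegral PT := isIntegral_of_isOpenImmersion j
    obtain ⟨c, b, w, hd⟩ := hdat (genericPoint C)
    have hsp : pu k C A (sε k C ε (genericPoint C)) ⤳ genericPoint C := by
      have h3 : pu k C A (sε k C ε (genericPoint C)) = genericPoint C := by
        rw [← Scheme.Hom.comp_apply, sε_pu]
        rfl
      exact specializes_of_eq h3
    obtain ⟨i, hi⟩ := exists_isUnit hd hsp
    obtain ⟨hy, hv⟩ := hval _ _ hsp c b w hd i hi
    have hjsp : j (genericPoint PT) ⤳ sε k C ε (genericPoint C) := by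
      rw [← hsj, Scheme.Hom.comp_apply]
      exact (genericPoint_specializes (s₀ (genericPoint C))).map j.continuous
    have husp : (j ≫ pu k C A) (genericPoint PT) ⤳ genericPoint C := by
      have h3 := (hjsp.map (pu k C A).continuous).trans hsp
      rwa [← Scheme.Hom.comp_apply] at h3
    -- the value at the generic point
    have h1 : PT.fromSpecStalk (genericPoint PT) ≫ (j' ≫ g) ≫ ι =
        K329.Pt.pt k (fun l => sg j hjo hjsp (thP k hsp (w l))) i (hi.map _) := by
      have h2 := fromSpecStalk_lift j hjo D j' hj' hjsp hy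
      rw [Category.assoc, ← Category.assoc, h2, Category.assoc, hv, K329.Pt.map_pt]
    have h2 : PT.fromSpecStalk (genericPoint PT) ≫ ((j ≫ pu k C A) ≫ f) ≫ ι =
        PT.fromSpecStalk (genericPoint PT) ≫ (j' ≫ g) ≫ ι := by
      rw [hh, hj1]
    obtain ⟨i', hi', hsc⟩ := hs
    have h3 : PT.fromSpecStalk (genericPoint PT) ≫ ((j ≫ pu k C A) ≫ f) ≫ ι =
        K329.Pt.pt k (fun l => sg (j ≫ pu k C A) hu' husp (s l)) i' (hi'.map _) := by
      rw [Category.assoc, ← Category.assoc, ← spec_sg (j ≫ pu k C A) hu' husp, Category.assoc, hsc, K329.Pt.map_pt]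
    have h4 := h3.symm.trans (h2.trans h1)
    obtain ⟨μ, hμ, hμl⟩ := K329.Pt.exists_smul_of_pt_eq k (F := PT.functionField) (hi'.map _) (hi.map _) h4
    have hv' : (j ≫ pv k C A) ≫ Spec.map (CommRingCat.ofHom (algebraMap k A)) = PT ↘ Spec (CommRingCat.of k) := by
      rw [Category.assoc, pv_over, hjo]
    have hηη : j (genericPoint PT) ⤳ genericPoint (PA k C A) :=
      specializes_of_eq (genericPoint_eq_of_isOpenImmersion j)
    have hη : pu k C A (genericPoint (PA k C A)) ⤳ genericPoint C := genericPoint_specializes_pu k C ε (genericPoint C)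
    have hinj : Function.Injective (th (j ≫ pv k C A) hv' (j ≫ pu k C A) hu' husp) := by
      rw [← sg_comp_th (pv k C A) (pv_over k C A) (pu k C A) (pu_over k C A) hη j hjo hηη husp]
      have hi2 : Function.Injective (sg j hjo hηη) :=
        (show (PA k C A).functionField →+* PT.functionField from (sg j hjo hηη).toRingHom).injective
      exact hi2.comp (th_injective k C A hη)
    obtain ⟨l, m, hlm⟩ := hne
    apply hlm
    apply hinj
    have h5 : ∀ l, th (j ≫ pv k C A) hv' (j ≫ pu k C A) hu' husp (S l) =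
        sg (j ≫ pu k C A) hu' husp c * (μ * sg (j ≫ pu k C A) hu' husp (s l)) := by
      intro l
      rw [hd.2.2.2 l, map_mul, th_left, th_extA_apply (j ≫ pv k C A) hv' (j ≫ pu k C A) hu' husp husp,
        ← sg_th_apply (pv k C A) (pv_over k C A) (pu k C A) (pu_over k C A) hsp j hjo hjsp husp]
      congr 1
      exact hμl l
    rw [map_mul, map_mul, h5 l, h5 m, th_left, th_left]
    ring

end K354.FamEx
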