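import Groth.Agent.Curves.K354.FamProd

/-!
# The rational map from the product of a curve with an affine parameter space given by a tuple of functions
-/

set_option autoImplicit false
set_option backward.isDefEq.respectTransparency false
universe u
open CategoryTheory CategoryTheory.Limits AlgebraicGeometry TopologicalSpace Opposite TensorProduct

noncomputable section

namespace K354.FamMap

open K756.FamDef K354.StkHom K354.VanPt K354.FamDom K354.FamProd

attribute [local instance] Curv2.stalkAlgebra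

variable (k : Type u) [Field k] {X : Scheme.{u}} [X.Over (Spec (CommRingCat.of k))]
    {N : ℕ} (ι : X ⟶ CohB1.ProjSpace N k)
    {C : Scheme.{u}} [C.Over (Spec (CommRingCat.of k))] [IsIntegral C] (f : C ⟶ X)
    {A : Type u} [CommRing A] [Algebra k A] (ε : A →ₐ[k] k)
    (S : Fin (N + 1) → C.functionField ⊗[k] A)

/-- Local data of a family at `z`. -/
def IsDat (z : C) (c : C.functionField) (b : Fin (N + 1) → C.presheaf.stalk z)
    (w : Fin (N + 1) → C.presheaf.stalk z ⊗[k] A) : Prop :=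
  c ≠ 0 ∧ IsCoord k (f ≫ ι) z b ∧ (∀ l, evA k (C.presheaf.stalk z) ε (w l) = b l) ∧
    ∀ l, S l = (c ⊗ₜ[k] (1 : A)) * extA k A C z (w l)

/-- `th` on the product -/
abbrev thP {y : PA k C A} {z : C} (h : pu k C A y ⤳ z) : (C.presheaf.stalk z ⊗[k] A) →ₐ[k] (PA k C A).presheaf.stalk y :=
  th (pv k C A) (pv_over k C A) (pu k C A) (pu_over k C A) h

variable {k ι f ε S}

theorem thP_S [IsIntegral (PA k C A)] {z : C} {c : C.functionField} {b : Fin (N + 1) → C.presheaf.stalk z}
    {w : Fin (N + 1) → C.presheaf.stalk z ⊗[k] A} (hd : IsDat k ι f ε S z c b w)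
    (hη : pu k C A (genericPoint (PA k C A)) ⤳ genericPoint C) {y : PA k C A} (h : pu k C A y ⤳ z) (l : Fin (N + 1)) :
    thP k hη (S l) = sg (pu k C A) (pu_over k C A) hη c *
      algebraMap ((PA k C A).presheaf.stalk y) (PA k C A).functionField (thP k h (w l)) := by
  have h1 := sp_th (pv k C A) (pv_over k C A) (pu k C A) (pu_over k C A) h (hη.trans (genericPoint_specializes z)) (w l)
  have h2 : algebraMap ((PA k C A).presheaf.stalk y) (PA k C A).functionField (thP k h (w l)) =
      thP k (hη.trans (genericPoint_specializes z)) (w l) := h1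
  rw [h2, hd.2.2.2 l, map_mul, th_left,
    th_extA_apply (pv k C A) (pv_over k C A) (pu k C A) (pu_over k C A) hη (hη.trans (genericPoint_specializes z))]

/-- On the section at `ε` one of the coordinates is invertible. -/
theorem exists_isUnit {z : C} {c : C.functionField} {b : Fin (N + 1) → C.presheaf.stalk z}
    {w : Fin (N + 1) → C.presheaf.stalk z ⊗[k] A} (hd : IsDat k ι f ε S z c b w)
    (h : pu k C A (sε k C ε z) ⤳ z) : ∃ i, IsUnit (thP k h (w i)) := by
  obtain ⟨-, ⟨i, hi, -⟩, hev, -⟩ := hd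
  refine ⟨i, ?_⟩
  have hloc := isLocalHom_sg (sε k C ε) (sε_over k C ε) (y := z) (z := sε k C ε z) rfl
  apply isUnit_of_map_unit (sg (sε k C ε) (sε_over k C ε) (specializes_rfl : sε k C ε z ⤳ sε k C ε z))
  rw [sg_th_apply _ _ _ _ h (sε k C ε) (sε_over k C ε) specializes_rfl h, th_const k C ε _ _ _ _ _ (sε_pv k C ε), hev]
  exact hi.map _

section Map

variable [IsIntegral X] [IsClosedImmersion ι] (hι : ι ≫ CohB1.ProjSpace.toSpec N k = X ↘ Spec (CommRingCat.of k))
  [IsIntegral (PA k C A)] (hdat : ∀ z : C, ∃ c b w, IsDat k ι f ε S z c b w)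
  (hX : ∀ G ∈ Van k ι, MvPolynomial.aeval S G = 0)

include hι hdat hX in
theorem exists_fam_map : ∃ (D : (PA k C A).Opens) (g : (D : Scheme.{u}) ⟶ X),
    g ≫ (X ↘ Spec (CommRingCat.of k)) = D.ι ≫ (PA k C A ↘ Spec (CommRingCat.of k)) ∧
      ∀ (y : PA k C A) (z : C) (h : pu k C A y ⤳ z) (c : C.functionField) (b : Fin (N + 1) → C.presheaf.stalk z)
        (w : Fin (N + 1) → C.presheaf.stalk z ⊗[k] A) (_ : IsDat k ι f ε S z c b w) (i : Fin (N + 1))
        (hi : IsUnit (thP k h (w i))),
        ∃ hy : y ∈ D, D.fromSpecStalkOfMem y hy ≫ g ≫ ι = K329.Pt.pt k (fun l => thP k h (w l)) i hi := by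
  have hη := genericPoint_specializes_pu k C ε (genericPoint C)
  obtain ⟨c₀, b₀, w₀, hd₀⟩ := hdat (genericPoint C)
  have hsec : pu k C A (sε k C ε (genericPoint C)) ⤳ genericPoint C := by
    have h3 : pu k C A (sε k C ε (genericPoint C)) = genericPoint C := by
      rw [← Scheme.Hom.comp_apply, sε_pu]
      rfl
    exact specializes_of_eq h3
  obtain ⟨i₀, hi₀⟩ := exists_isUnit hd₀ hsec
  have hu₀ : IsUnit (thP k hη (S i₀)) := by
    rw [thP_S hd₀ hη hsec i₀]
    refine IsUnit.mul ?_ (hi₀.map _)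
    have h1 : IsUnit c₀ := isUnit_iff_ne_zero.mpr hd₀.1
    exact h1.map (sg (pu k C A) (pu_over k C A) hη)
  obtain ⟨D, g, hg, hD⟩ := exists_map k ι hι (P := PA k C A) (fun l => thP k hη (S l)) i₀ hu₀ (by
    intro G hG
    have h1 := congrArg (thP k hη) (hX G hG)
    rw [map_zero] at h1
    rw [← h1]
    exact (MvPolynomial.comp_aeval_apply (R := k) S (thP k hη) G).symm)
  refine ⟨D, g, hg, fun y z h c b w hd i hi => ?_⟩
  exact hD y (fun l => thP k h (w l)) (sg (pu k C A) (pu_over k C A) hη c) i hi fun l => thP_S hd hη h l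

end Map

/-- The homomorphism of local rings attached to the identity is the identity. -/
theorem sg_id_apply {Y : Scheme.{u}} [Y.Over (Spec (CommRingCat.of k))] (u : Y ⟶ Y)
    (hu : u ≫ (Y ↘ Spec (CommRingCat.of k)) = Y ↘ Spec (CommRingCat.of k)) (hid : u = 𝟙 Y) {y : Y} (h : u y ⤳ y)
    (x : Y.presheaf.stalk y) : sg u hu h x = x := by
  have h1 : AlgHom.id k (Y.presheaf.stalk y) = sg u hu h := by
    apply eq_sg
    rw [hid, Category.comp_id]
    have : CommRingCat.ofHom ((AlgHom.id k (Y.presheaf.stalk y) : Y.presheaf.stalk y →ₐ[k] Y.presheaf.stalk y) :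
        Y.presheaf.stalk y →+* Y.presheaf.stalk y) = 𝟙 _ := rfl
    rw [this, Spec.map_id, Category.id_comp]
  rw [← h1]
  rfl

theorem isDominant_fromSpecStalk (Y : Scheme.{u}) [IsIntegral Y] :
    IsDominant (Y.fromSpecStalk (genericPoint Y)) := by
  constructor
  have h1 : genericPoint Y ∈ Set.range (Y.fromSpecStalk (genericPoint Y)) := by
    rw [Scheme.range_fromSpecStalk]
    exact specializes_rfl
  have h2 : closure ({genericPoint Y} : Set Y) = Set.univ := genericPoint_closure _
  rw [DenseRange, dense_iff_closure_eq]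
  apply Set.eq_univ_of_univ_subset
  rw [← h2]
  exact closure_mono (Set.singleton_subset_iff.mpr h1)

/-- the morphism from the spectrum of the local ring through a morphism with values in an open subset -/
theorem fromSpecStalk_lift {Y P : Scheme.{u}} [Y.Over (Spec (CommRingCat.of k))] [P.Over (Spec (CommRingCat.of k))]
    (j : Y ⟶ P) (hj : j ≫ (P ↘ Spec (CommRingCat.of k)) = Y ↘ Spec (CommRingCat.of k)) (D : P.Opens)
    (j' : Y ⟶ (D : Scheme.{u})) (hj' : j' ≫ D.ι = j) {y : Y} {p : P} (h : j y ⤳ p) (hp : p ∈ D) :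
    Y.fromSpecStalk y ≫ j' = Spec.map (CommRingCat.ofHom (sg j hj h : P.presheaf.stalk p →+* Y.presheaf.stalk y)) ≫
      D.fromSpecStalkOfMem p hp := by
  rw [← cancel_mono D.ι, Category.assoc, Category.assoc, hj', Scheme.Opens.fromSpecStalkOfMem_ι, spec_sg]

section Values

variable [IsClosedImmersion ι] (hι : ι ≫ CohB1.ProjSpace.toSpec N k = X ↘ Spec (CommRingCat.of k))
  (hf : f ≫ (X ↘ Spec (CommRingCat.of k)) = C ↘ Spec (CommRingCat.of k))
  (D : (PA k C A).Opens) (g : (D : Scheme.{u}) ⟶ X)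
  (hg : g ≫ (X ↘ Spec (CommRingCat.of k)) = D.ι ≫ (PA k C A ↘ Spec (CommRingCat.of k)))
  (hval : ∀ (y : PA k C A) (z : C) (h : pu k C A y ⤳ z) (c : C.functionField) (b : Fin (N + 1) → C.presheaf.stalk z)
        (w : Fin (N + 1) → C.presheaf.stalk z ⊗[k] A) (_ : IsDat k ι f ε S z c b w) (i : Fin (N + 1))
        (hi : IsUnit (thP k h (w i))),
        ∃ hy : y ∈ D, D.fromSpecStalkOfMem y hy ≫ g ≫ ι = K329.Pt.pt k (fun l => thP k h (w l)) i hi)

include hval in
omit [IsClosedImmersion ι] in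
theorem sε_mem (hdat : ∀ z : C, ∃ c b w, IsDat k ι f ε S z c b w) (z : C) : sε k C ε z ∈ D := by
  have h : pu k C A (sε k C ε z) ⤳ z := by
    have h3 : pu k C A (sε k C ε z) = z := by
      rw [← Scheme.Hom.comp_apply, sε_pu]
      rfl
    exact specializes_of_eq h3
  obtain ⟨c, b, w, hd⟩ := hdat z
  obtain ⟨i, hi⟩ := exists_isUnit hd h
  exact (hval _ _ h c b w hd i hi).choose

include hι hf hg hval in
/-- The rational map restricts to `f` on the section at `ε`. -/
theorem section_comp (hdat : ∀ z : C, ∃ c b w, IsDat k ι f ε S z c b w) (s' : C ⟶ (D : Scheme.{u}))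
    (hs' : s' ≫ D.ι = sε k C ε) : s' ≫ g = f := by
  rw [← cancel_mono ι]
  have hprop : IsProper (CohB1.ProjSpace.toSpec N k) := Groth.Agent.VarietyB.ProjSpaceProper.isProper_toSpec N k
  have hdom := isDominant_fromSpecStalk C
  refine ext_of_isDominant_of_isSeparated (CohB1.ProjSpace.toSpec N k) ?_ (C.fromSpecStalk (genericPoint C)) ?_
  · rw [Category.assoc, Category.assoc, Category.assoc, hι, hg, hf, ← Category.assoc, hs', sε_over]
  · have h : pu k C A (sε k C ε (genericPoint C)) ⤳ genericPoint C := by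
      have h3 : pu k C A (sε k C ε (genericPoint C)) = genericPoint C := by
        rw [← Scheme.Hom.comp_apply, sε_pu]
        rfl
      exact specializes_of_eq h3
    obtain ⟨c, b, w, hd⟩ := hdat (genericPoint C)
    obtain ⟨i, hi⟩ := exists_isUnit hd h
    obtain ⟨hy, hv⟩ := hval _ _ h c b w hd i hi
    obtain ⟨-, ⟨i', hi', hb⟩, hev, -⟩ := hd
    have h1 := fromSpecStalk_lift (sε k C ε) (sε_over k C ε) D s' hs'
      (specializes_rfl : sε k C ε (genericPoint C) ⤳ sε k C ε (genericPoint C)) hy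
    rw [Category.assoc, ← Category.assoc, h1, Category.assoc, hv, hb]
    refine K329.Pt.map_pt' k _ _ i hi b (fun l => ?_) i' hi'
    rw [sg_th_apply _ _ _ _ h (sε k C ε) (sε_over k C ε) specializes_rfl h, th_const k C ε _ _ _ _ _ (sε_pv k C ε), hev]
    exact sg_id_apply _ _ (sε_pu k C ε) _ _

include hval in
/-- The value at the fixed points. -/
theorem value_fixed {z : C} {c : C.functionField} {b : Fin (N + 1) → C.presheaf.stalk z}
    {w : Fin (N + 1) → C.presheaf.stalk z ⊗[k] A} (hd : IsDat k ι f ε S z c b w) (a : A)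
    (ha : ∀ l, w l - b l ⊗ₜ[k] a ∈ (IsLocalRing.maximalIdeal (C.presheaf.stalk z)).map
            (Algebra.TensorProduct.includeLeft : C.presheaf.stalk z →ₐ[k] C.presheaf.stalk z ⊗[k] A))
    (y : PA k C A) (hy : pu k C A y = z) (hay : IsUnit (ta (pv k C A) (pv_over k C A) y a)) :
    ∃ hyD : y ∈ D, g ⟨y, hyD⟩ = f z := by
  have h : pu k C A y ⤳ z := specializes_of_eq hy
  have hloc := isLocalHom_sg (pu k C A) (pu_over k C A) hy
  have hm : ∀ l, thP k h (w l) - sg (pu k C A) (pu_over k C A) h (b l) * ta (pv k C A) (pv_over k C A) y a ∈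
      IsLocalRing.maximalIdeal ((PA k C A).presheaf.stalk y) := by
    intro l
    have h1 : (IsLocalRing.maximalIdeal (C.presheaf.stalk z)).map
            (Algebra.TensorProduct.includeLeft : C.presheaf.stalk z →ₐ[k] C.presheaf.stalk z ⊗[k] A) ≤
            (IsLocalRing.maximalIdeal ((PA k C A).presheaf.stalk y)).comap (thP k h) := by
      rw [Ideal.map_le_iff_le_comap]
      intro m hm
      rw [Ideal.mem_comap, Ideal.mem_comap]
      change thP k h (m ⊗ₜ (1 : A)) ∈ _
      rw [th_left]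
      rw [IsLocalRing.mem_maximalIdeal, mem_nonunits_iff] at hm ⊢
      exact fun hu => hm (isUnit_of_map_unit _ _ hu)
    have h2 := h1 (ha l)
    rw [Ideal.mem_comap, map_sub, th_tmul] at h2
    exact h2
  obtain ⟨j, hj, hbj⟩ := id hd.2.1
  have hu : IsUnit (thP k h (w j)) := by
    by_contra hcon
    have h1 : thP k h (w j) ∈ IsLocalRing.maximalIdeal ((PA k C A).presheaf.stalk y) := hcon
    have h2 := Ideal.sub_mem _ h1 (hm j)
    rw [sub_sub_cancel] at h2
    exact h2 ((hj.map _).mul hay)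
  obtain ⟨hyD, hv⟩ := hval y z h c b w hd j hu
  refine ⟨hyD, ?_⟩
  let _ : Algebra k ((PA k C A).residueField y) := Curv2.resAlgebra k (PA k C A) y
  let ρ : (PA k C A).presheaf.stalk y →ₐ[k] (PA k C A).residueField y :=
    { ((PA k C A).residue y).hom with commutes' := fun _ => rfl }
  have hρ0 : ∀ x ∈ IsLocalRing.maximalIdeal ((PA k C A).presheaf.stalk y), ρ x = 0 := fun x hx =>
    (IsLocalRing.residue_eq_zero_iff x).mpr hx
  have h3 : ∀ l, ρ (thP k h (w l)) = ρ (ta (pv k C A) (pv_over k C A) y a) * ρ (sg (pu k C A) (pu_over k C A) h (b l)) := by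
    intro l
    have h4 := hρ0 _ (hm l)
    rw [map_sub, sub_eq_zero, map_mul] at h4
    rw [h4, mul_comm]
  have h4 : Spec.map (CommRingCat.ofHom (ρ : (PA k C A).presheaf.stalk y →+* (PA k C A).residueField y)) ≫
      K329.Pt.pt k (fun l => thP k h (w l)) j hu =
      K329.Pt.pt k (fun l => ρ (sg (pu k C A) (pu_over k C A) h (b l))) j ((hj.map _).map ρ) := by
    rw [K329.Pt.map_pt]
    exact K329.Pt.pt_smul k _ (hay.map ρ) _ j _ _ h3 j _
  have h5 : Spec.map (CommRingCat.ofHom (ρ : (PA k C A).presheaf.stalk y →+* (PA k C A).residueField y)) ≫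
      (PA k C A).fromSpecStalk y ≫ pu k C A ≫ f ≫ ι =
      K329.Pt.pt k (fun l => ρ (sg (pu k C A) (pu_over k C A) h (b l))) j ((hj.map _).map ρ) := by
    rw [← Category.assoc ((PA k C A).fromSpecStalk y), ← spec_sg (pu k C A) (pu_over k C A) h, Category.assoc, hbj,
      K329.Pt.map_pt, K329.Pt.map_pt]
  have h6 : (Spec.map (CommRingCat.ofHom (ρ : (PA k C A).presheaf.stalk y →+* (PA k C A).residueField y)) ≫
      D.fromSpecStalkOfMem y hyD) ≫ g =
      Spec.map (CommRingCat.ofHom (ρ : (PA k C A).presheaf.stalk y →+* (PA k C A).residueField y)) ≫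
      (PA k C A).fromSpecStalk y ≫ pu k C A ≫ f := by
    rw [← cancel_mono ι]
    simp only [Category.assoc]
    rw [hv, h4, h5]
  let p₀ : Spec ((PA k C A).residueField y) := IsLocalRing.closedPoint ((PA k C A).residueField y)
  have h7 := congrArg (fun φ : Spec ((PA k C A).residueField y) ⟶ X => φ p₀) h6
  have h8 : (Spec.map (CommRingCat.ofHom (ρ : (PA k C A).presheaf.stalk y →+* (PA k C A).residueField y)) ≫
      (PA k C A).fromSpecStalk y) p₀ = y := (PA k C A).fromSpecResidueField_apply y p₀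
  have h9 : (Spec.map (CommRingCat.ofHom (ρ : (PA k C A).presheaf.stalk y →+* (PA k C A).residueField y)) ≫
      D.fromSpecStalkOfMem y hyD) p₀ = ⟨y, hyD⟩ := by
    apply Subtype.ext
    have h10 : D.ι ((Spec.map (CommRingCat.ofHom (ρ : (PA k C A).presheaf.stalk y →+* (PA k C A).residueField y)) ≫
      D.fromSpecStalkOfMem y hyD) p₀) = y := by
      rw [← Scheme.Hom.comp_apply, Category.assoc, Scheme.Opens.fromSpecStalkOfMem_ι]
      exact h8
    exact h10
  have h11 : ((Spec.map (CommRingCat.ofHom (ρ : (PA k C A).presheaf.stalk y →+* (PA k C A).residueField y)) ≫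
      D.fromSpecStalkOfMem y hyD) ≫ g) p₀ = g ⟨y, hyD⟩ := by
    rw [Scheme.Hom.comp_apply, h9]
  have h12 : (Spec.map (CommRingCat.ofHom (ρ : (PA k C A).presheaf.stalk y →+* (PA k C A).residueField y)) ≫
      (PA k C A).fromSpecStalk y ≫ pu k C A ≫ f) p₀ = f z := by
    rw [← Category.assoc, Scheme.Hom.comp_apply, h8, Scheme.Hom.comp_apply, hy]
  rw [← h11, ← h12]
  exact h7

end Values

end K354.FamMap
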