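import Groth.Agent.Curves.K354.FamDom
import Groth.Agent.S1582
import Groth.Agent.S1618
import Mathlib.RingTheory.Polynomial.Basic

/-!
# The product of a curve with an affine parameter space: local rings, sections, injectivity
-/

set_option autoImplicit false
set_option backward.isDefEq.respectTransparency false
universe u
open CategoryTheory CategoryTheory.Limits AlgebraicGeometry TopologicalSpace Opposite TensorProduct

noncomputable section

namespace K354.FamProd

open K756.FamDef K354.StkHom K354.VanPt K354.FamDom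

attribute [local instance] Curv2.stalkAlgebra

section Zero

variable {k : Type u} [Field k] {R : Type u} [CommRing R] [Algebra k R]

/-- An element of `R` whose images in all the local rings of `Spec R` vanish is zero. -/
theorem eq_zero_of_ta [Y : (Spec (CommRingCat.of R)).Over (Spec (CommRingCat.of k))]
    (hv : 𝟙 (Spec (CommRingCat.of R)) ≫ Spec.map (CommRingCat.ofHom (algebraMap k R)) =
      Spec (CommRingCat.of R) ↘ Spec (CommRingCat.of k)) (x : R)
    (h : ∀ y : Spec (CommRingCat.of R), ta (𝟙 (Spec (CommRingCat.of R))) hv y x = 0) : x = 0 := by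
  have h0 : (Scheme.ΓSpecIso (CommRingCat.of R)).inv x = 0 := by
    refine TopCat.Presheaf.section_ext (Spec (CommRingCat.of R)).sheaf ⊤ _ _ fun y hy => ?_
    rw [map_zero]
    have h1 := spec_ta (𝟙 (Spec (CommRingCat.of R))) hv y
    rw [Category.comp_id, Spec.fromSpecStalk_eq] at h1
    have h2 := Spec.map_injective h1
    have h3 := h y
    have h4 : (CommRingCat.ofHom (ta (𝟙 (Spec (CommRingCat.of R))) hv y :
        R →+* (Spec (CommRingCat.of R)).presheaf.stalk y)).hom x = 0 := h3
    rw [h2] at h4
    exact h4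
  have h1 : Function.Injective (Scheme.ΓSpecIso (CommRingCat.of R)).inv :=
    ((ConcreteCategory.isIso_iff_bijective (Scheme.ΓSpecIso (CommRingCat.of R)).inv).1 inferInstance).1
  apply h1
  rw [h0, map_zero]

end Zero

variable (k : Type u) [Field k] (C : Scheme.{u}) [C.Over (Spec (CommRingCat.of k))] (A : Type u) [CommRing A] [Algebra k A]

/-- the structure morphism of `Spec A` -/
def sA : Spec (CommRingCat.of A) ⟶ Spec (CommRingCat.of k) := Spec.map (CommRingCat.ofHom (algebraMap k A))

/-- the product `C × Spec A` -/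
def PA : Scheme.{u} := pullback (C ↘ Spec (CommRingCat.of k)) (sA k A)

/-- the projection to `C` -/
def pu : PA k C A ⟶ C := pullback.fst _ _

/-- the projection to `Spec A` -/
def pv : PA k C A ⟶ Spec (CommRingCat.of A) := pullback.snd _ _

instance overPA : (PA k C A).Over (Spec (CommRingCat.of k)) := ⟨pu k C A ≫ (C ↘ Spec (CommRingCat.of k))⟩

theorem pu_over : pu k C A ≫ (C ↘ Spec (CommRingCat.of k)) = PA k C A ↘ Spec (CommRingCat.of k) := rfl

theorem pv_over : pv k C A ≫ Spec.map (CommRingCat.ofHom (algebraMap k A)) = PA k C A ↘ Spec (CommRingCat.of k) :=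
  pullback.condition.symm

theorem isPullback : IsPullback (pu k C A) (pv k C A) (C ↘ Spec (CommRingCat.of k)) (sA k A) :=
  IsPullback.of_hasPullback _ _

theorem isIntegral_PA [IsAlgClosed k] [IsIntegral C] [IsDomain A] [Algebra.FiniteType k A]
    [IsProper (C ↘ Spec (CommRingCat.of k))] : IsIntegral (PA k C A) := by
  have h1 : IsIntegral (Spec (CommRingCat.of A)) := inferInstance
  have h2 : LocallyOfFiniteType (sA k A) := by
    rw [sA, HasRingHomProperty.Spec_iff (P := @LocallyOfFiniteType)]
    exact (RingHom.finiteType_algebraMap).mpr ‹_›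
  have h3 : IsSeparated (sA k A) := by rw [sA]; infer_instance
  have h4 : QuasiCompact (sA k A) := by rw [sA]; infer_instance
  exact Groth.Agent.S1582.result k C (Spec (CommRingCat.of A)) (C ↘ Spec (CommRingCat.of k)) (sA k A)

section Sec

variable {A} (ε : A →ₐ[k] k)

@[reassoc]
theorem spec_ε : Spec.map (CommRingCat.ofHom (ε : A →+* k)) ≫ sA k A = 𝟙 (Spec (CommRingCat.of k)) := by
  rw [sA, ← Spec.map_comp]
  have : CommRingCat.ofHom (algebraMap k A) ≫ CommRingCat.ofHom (ε : A →+* k) = 𝟙 (CommRingCat.of k) := by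
    apply CommRingCat.hom_ext
    apply RingHom.ext
    intro r
    exact ε.commutes r
  rw [this, Spec.map_id]

/-- the section at `ε` -/
def sε : C ⟶ PA k C A :=
  pullback.lift (𝟙 C) ((C ↘ Spec (CommRingCat.of k)) ≫ Spec.map (CommRingCat.ofHom (ε : A →+* k))) (by
    rw [Category.id_comp, Category.assoc, spec_ε, Category.comp_id])

@[reassoc]
theorem sε_pu : sε k C ε ≫ pu k C A = 𝟙 C := pullback.lift_fst _ _ _

@[reassoc]
theorem sε_pv : sε k C ε ≫ pv k C A = (C ↘ Spec (CommRingCat.of k)) ≫ Spec.map (CommRingCat.ofHom (ε : A →+* k)) :=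
  pullback.lift_snd _ _ _

theorem sε_over : sε k C ε ≫ (PA k C A ↘ Spec (CommRingCat.of k)) = C ↘ Spec (CommRingCat.of k) := by
  rw [← pu_over, sε_pu_assoc]

/-- The point `ε` of `Spec A`. -/
def tε : Spec (CommRingCat.of A) := Spec.map (CommRingCat.ofHom (ε : A →+* k)) (IsLocalRing.closedPoint k)

theorem mem_range_sε (y : PA k C A) (hy : pv k C A y = tε k ε) : y ∈ Set.range (sε k C ε) := by
  obtain ⟨y', h1, h2⟩ := Scheme.Pullback.exists_preimage_pullback y (IsLocalRing.closedPoint k : Spec (CommRingCat.of k))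
    (f := pv k C A) (g := Spec.map (CommRingCat.ofHom (ε : A →+* k))) hy
  let q := pullback.fst (pv k C A) (Spec.map (CommRingCat.ofHom (ε : A →+* k)))
  have hq : q = (q ≫ pu k C A) ≫ sε k C ε := by
    apply (isPullback k C A).hom_ext
    · rw [Category.assoc, sε_pu, Category.comp_id]
    · have h3 : q ≫ pv k C A = pullback.snd _ _ ≫ Spec.map (CommRingCat.ofHom (ε : A →+* k)) := pullback.condition
      have h4 : pu k C A ≫ (C ↘ Spec (CommRingCat.of k)) = pv k C A ≫ sA k A := (isPullback k C A).w
      rw [Category.assoc, sε_pv, Category.assoc, ← Category.assoc (pu k C A), h4, Category.assoc, ← Category.assoc q, h3,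
        Category.assoc, spec_ε_assoc]
  exact ⟨(q ≫ pu k C A) y', by rw [← Scheme.Hom.comp_apply, ← hq]; exact h1⟩

theorem ta_const {Y : Scheme.{u}} [Y.Over (Spec (CommRingCat.of k))] (v : Y ⟶ Spec (CommRingCat.of A))
    (hv : v ≫ Spec.map (CommRingCat.ofHom (algebraMap k A)) = Y ↘ Spec (CommRingCat.of k)) (y : Y)
    (hvε : v = (Y ↘ Spec (CommRingCat.of k)) ≫ Spec.map (CommRingCat.ofHom (ε : A →+* k))) (a : A) :
    ta v hv y a = algebraMap k (Y.presheaf.stalk y) (ε a) := by
  have h1 : (Algebra.ofId k (Y.presheaf.stalk y)).comp ε = ta v hv y := by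
    apply eq_ta
    have h2 : CommRingCat.ofHom (((Algebra.ofId k (Y.presheaf.stalk y)).comp ε : A →ₐ[k] Y.presheaf.stalk y) :
        A →+* Y.presheaf.stalk y) = CommRingCat.ofHom (ε : A →+* k) ≫
          CommRingCat.ofHom (algebraMap k (Y.presheaf.stalk y)) := rfl
    rw [h2, Spec.map_comp, spec_algebraMap, Category.assoc, hvε]
  rw [← h1]
  rfl

theorem th_const {Y : Scheme.{u}} [Y.Over (Spec (CommRingCat.of k))] (v : Y ⟶ Spec (CommRingCat.of A))
    (hv : v ≫ Spec.map (CommRingCat.ofHom (algebraMap k A)) = Y ↘ Spec (CommRingCat.of k)) (u : Y ⟶ C)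
    (hu : u ≫ (C ↘ Spec (CommRingCat.of k)) = Y ↘ Spec (CommRingCat.of k)) {y : Y} {z : C} (h : u y ⤳ z)
    (hvε : v = (Y ↘ Spec (CommRingCat.of k)) ≫ Spec.map (CommRingCat.ofHom (ε : A →+* k)))
    (x : C.presheaf.stalk z ⊗[k] A) : th v hv u hu h x = sg u hu h (evA k (C.presheaf.stalk z) ε x) := by
  have h1 : th v hv u hu h = (sg u hu h).comp (evA k (C.presheaf.stalk z) ε) := by
    apply Algebra.TensorProduct.ext
    · apply AlgHom.ext
      intro x
      change th v hv u hu h (x ⊗ₜ (1 : A)) = sg u hu h (evA k (C.presheaf.stalk z) ε (x ⊗ₜ (1 : A)))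
      rw [th_left, evA_tmul, map_one, one_smul]
    · apply AlgHom.ext
      intro a
      change th v hv u hu h ((1 : C.presheaf.stalk z) ⊗ₜ a) =
        sg u hu h (evA k (C.presheaf.stalk z) ε ((1 : C.presheaf.stalk z) ⊗ₜ a))
      rw [th_right, evA_tmul, map_smul, map_one, ta_const k ε v hv y hvε, Algebra.algebraMap_eq_smul_one]
  rw [h1]
  rfl

include ε in
theorem genericPoint_specializes_pu [IsIntegral C] [IsIntegral (PA k C A)] (z : C) :
    pu k C A (genericPoint (PA k C A)) ⤳ z := by
  have h1 : genericPoint (PA k C A) ⤳ sε k C ε z := genericPoint_specializes _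
  have h2 := h1.map (pu k C A).continuous
  have h3 : pu k C A (sε k C ε z) = z := by
    rw [← Scheme.Hom.comp_apply, sε_pu]
    rfl
  rwa [h3] at h2

end Sec

section Inj

variable [IsIntegral C] [IsIntegral (PA k C A)]

/-- `K(C) ⊗ A` embeds in the function field of `C × Spec A`. -/
theorem th_injective (h : pu k C A (genericPoint (PA k C A)) ⤳ genericPoint C) :
    Function.Injective (th (pv k C A) (pv_over k C A) (pu k C A) (pu_over k C A) h) := by
  rw [injective_iff_map_eq_zero]
  intro x hx
  let R := C.presheaf.stalk (genericPoint C) ⊗[k] A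
  let _ : (Spec (CommRingCat.of R)).Over (Spec (CommRingCat.of k)) :=
    ⟨Spec.map (CommRingCat.ofHom (algebraMap k R))⟩
  let uR : Spec (CommRingCat.of R) ⟶ C :=
    Spec.map (CommRingCat.ofHom (Algebra.TensorProduct.includeLeft :
      C.presheaf.stalk (genericPoint C) →ₐ[k] R).toRingHom) ≫ C.fromSpecStalk (genericPoint C)
  let vR : Spec (CommRingCat.of R) ⟶ Spec (CommRingCat.of A) :=
    Spec.map (CommRingCat.ofHom (Algebra.TensorProduct.includeRight : A →ₐ[k] R).toRingHom)
  have huR : uR ≫ (C ↘ Spec (CommRingCat.of k)) = Spec (CommRingCat.of R) ↘ Spec (CommRingCat.of k) := by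
    change (_ ≫ _) ≫ _ = Spec.map (CommRingCat.ofHom (algebraMap k R))
    rw [Category.assoc, ← spec_algebraMap, ← Spec.map_comp]
    rfl
  have hvR : vR ≫ Spec.map (CommRingCat.ofHom (algebraMap k A)) =
      Spec (CommRingCat.of R) ↘ Spec (CommRingCat.of k) := by
    change _ ≫ _ = Spec.map (CommRingCat.ofHom (algebraMap k R))
    rw [← Spec.map_comp]
    congr 1
    apply CommRingCat.hom_ext
    apply RingHom.ext
    intro r
    exact (Algebra.TensorProduct.includeRight : A →ₐ[k] R).commutes r
  let q : Spec (CommRingCat.of R) ⟶ PA k C A := (isPullback k C A).lift uR vR (huR.trans hvR.symm)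
  have hq1 : q ≫ pu k C A = uR := (isPullback k C A).lift_fst _ _ _
  have hq2 : q ≫ pv k C A = vR := (isPullback k C A).lift_snd _ _ _
  have hq : q ≫ (PA k C A ↘ Spec (CommRingCat.of k)) = Spec (CommRingCat.of R) ↘ Spec (CommRingCat.of k) := by
    rw [← pu_over, ← Category.assoc, hq1, huR]
  have hid : 𝟙 (Spec (CommRingCat.of R)) ≫ Spec.map (CommRingCat.ofHom (algebraMap k R)) =
      Spec (CommRingCat.of R) ↘ Spec (CommRingCat.of k) := Category.id_comp _
  refine eq_zero_of_ta hid x fun y => ?_
  have h1 : uR y ⤳ genericPoint C := by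
    have : uR y ∈ Set.range (C.fromSpecStalk (genericPoint C)) := ⟨_, (Scheme.Hom.comp_apply _ _ _).symm⟩
    rw [Scheme.range_fromSpecStalk] at this
    exact this
  have h2 : pu k C A (q y) ⤳ genericPoint C := by
    rw [← Scheme.Hom.comp_apply, hq1]
    exact h1
  -- the element vanishes in the local ring at `q y`
  have h3 : th (pv k C A) (pv_over k C A) (pu k C A) (pu_over k C A) h2 x = 0 := by
    apply IsFractionRing.injective ((PA k C A).presheaf.stalk (q y)) (PA k C A).functionField
    rw [map_zero]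
    exact (sp_th (pv k C A) (pv_over k C A) (pu k C A) (pu_over k C A) h2 h x).trans hx
  have h6 := congrArg (sg q hq (specializes_rfl : q y ⤳ q y)) h3
  rw [map_zero, sg_th_apply _ _ _ _ _ q hq _ h2] at h6
  have h7 : ta (𝟙 (Spec (CommRingCat.of R))) hid y = th (q ≫ pv k C A) (by rw [Category.assoc, pv_over, hq])
      (q ≫ pu k C A) (by rw [Category.assoc, pu_over, hq]) h2 := by
    apply Algebra.TensorProduct.ext
    · apply AlgHom.ext
      intro a
      change ta (𝟙 (Spec (CommRingCat.of R))) hid y (a ⊗ₜ (1 : A)) = th _ _ _ _ _ (a ⊗ₜ (1 : A))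
      rw [th_left]
      have h8 := eq_sg (q ≫ pu k C A) (by rw [Category.assoc, pu_over, hq]) h2
        ((ta (𝟙 (Spec (CommRingCat.of R))) hid y).comp Algebra.TensorProduct.includeLeft) (by
          have h9 : CommRingCat.ofHom (((ta (𝟙 (Spec (CommRingCat.of R))) hid y).comp
              Algebra.TensorProduct.includeLeft : C.presheaf.stalk (genericPoint C) →ₐ[k]
                (Spec (CommRingCat.of R)).presheaf.stalk y) : C.presheaf.stalk (genericPoint C) →+*
                (Spec (CommRingCat.of R)).presheaf.stalk y) =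
              CommRingCat.ofHom (Algebra.TensorProduct.includeLeft :
                C.presheaf.stalk (genericPoint C) →ₐ[k] R).toRingHom ≫
              CommRingCat.ofHom (ta (𝟙 (Spec (CommRingCat.of R))) hid y :
                R →+* (Spec (CommRingCat.of R)).presheaf.stalk y) := rfl
          rw [h9, Spec.map_comp, Category.assoc, spec_ta, Category.comp_id, hq1])
      rw [← h8]
      rfl
    · apply AlgHom.ext
      intro a
      change ta (𝟙 (Spec (CommRingCat.of R))) hid y ((1 : C.presheaf.stalk (genericPoint C)) ⊗ₜ a) =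
        th _ _ _ _ _ ((1 : C.presheaf.stalk (genericPoint C)) ⊗ₜ a)
      rw [th_right]
      have h8 := eq_ta (q ≫ pv k C A) (by rw [Category.assoc, pv_over, hq]) y
        ((ta (𝟙 (Spec (CommRingCat.of R))) hid y).comp Algebra.TensorProduct.includeRight) (by
          have h9 : CommRingCat.ofHom (((ta (𝟙 (Spec (CommRingCat.of R))) hid y).comp
              Algebra.TensorProduct.includeRight : A →ₐ[k] (Spec (CommRingCat.of R)).presheaf.stalk y) :
              A →+* (Spec (CommRingCat.of R)).presheaf.stalk y) =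
              CommRingCat.ofHom (Algebra.TensorProduct.includeRight : A →ₐ[k] R).toRingHom ≫
              CommRingCat.ofHom (ta (𝟙 (Spec (CommRingCat.of R))) hid y :
                R →+* (Spec (CommRingCat.of R)).presheaf.stalk y) := rfl
          rw [h9, Spec.map_comp, spec_ta, Category.comp_id, hq2])
      rw [← h8]
      rfl
  rw [h7]
  exact h6

end Inj

end K354.FamProd
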