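import Groth.Agent.Curves.K329.Pt
import Groth.Agent.CycA.MovVec
import Groth.Agent.CurvesC.ProjMap

/-!
# The ratios of the coordinates at a point of projective space
-/

set_option autoImplicit false
universe u

open CategoryTheory AlgebraicGeometry IsLocalRing TopologicalSpace

namespace K354.PtRatio

open CohB1 K329.Pt
open Groth.Agent Groth.Agent.CurvesC Groth.Agent.CurvesC.ProjSpaceBasic
open Groth.Agent.VarietyB.ProjHom (awayLift awayLift_mk awayLift_comp)

variable {k : Type u} [Field k] {N : ℕ} {B : Type u} [CommRing B] [Algebra k B]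

theorem pt_appLE (b : Fin (N + 1) → B) (i : Fin (N + 1)) (hi : IsUnit (b i))
    (h : ⊤ ≤ pt k b i hi ⁻¹ᵁ Proj.basicOpen (polyGrading N k) (MvPolynomial.X i))
    (z : HomogeneousLocalization.Away (polyGrading N k) (MvPolynomial.X i)) :
    (pt k b i hi).appLE _ ⊤ h (Proj.awayToSection (polyGrading N k) (MvPolynomial.X i) z) =
      (Scheme.ΓSpecIso (CommRingCat.of B)).inv
        (awayLift (polyGrading N k) (ev k b) (MvPolynomial.X i) (isUnit_ev k hi) z) := by
  have h1 : ∀ (m : Spec (CommRingCat.of B) ⟶ ProjSpace N k)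
      (_ : m = VarietyB.ProjHom.toProj (polyGrading N k) (evΓ k b) (X_mem N k i) Nat.one_pos (isUnit_evΓ k hi))
      (h : ⊤ ≤ m ⁻¹ᵁ Proj.basicOpen (polyGrading N k) (MvPolynomial.X i)),
      m.appLE _ ⊤ h (Proj.awayToSection (polyGrading N k) (MvPolynomial.X i) z) =
        (Scheme.ΓSpecIso (CommRingCat.of B)).inv
          (awayLift (polyGrading N k) (ev k b) (MvPolynomial.X i) (isUnit_ev k hi) z) := by
    rintro _ rfl h
    have h2 := CycA.MovVec.toProj_app (polyGrading N k) (evΓ k b) (X_mem N k i) Nat.one_pos (isUnit_evΓ k hi) z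
    rw [Scheme.Hom.appLE, CommRingCat.comp_apply]
    refine (congrArg _ h2).trans ?_
    refine (Gen.map_map_function (X := Spec (CommRingCat.of B)) h _ _).trans ?_
    refine (Gen.map_self_function (X := Spec (CommRingCat.of B)) _ _).trans ?_
    exact (congrArg (fun f => f z) (awayLift_comp (polyGrading N k) (ev k b) (isUnit_ev k hi) (X_mem N k i)
      (Scheme.ΓSpecIso (CommRingCat.of B)).inv.hom)).symm
  exact h1 _ (pt_eq_toProj k b i hi) h

theorem preimage_basicOpen (b : Fin (N + 1) → B) (i : Fin (N + 1)) (hi : IsUnit (b i))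
    {F : MvPolynomial (Fin (N + 1)) k} {d : ℕ} (hF : F ∈ polyGrading N k d) (hd : 0 < d) :
    pt k b i hi ⁻¹ᵁ Proj.basicOpen (polyGrading N k) F = (Spec (CommRingCat.of B)).basicOpen (evΓ k b F) := by
  rw [pt_eq_toProj]
  exact VarietyB.ProjHom.toProj_preimage_basicOpen _ _ _ _ _ hF hd

theorem top_le (b : Fin (N + 1) → B) (i : Fin (N + 1)) (hi : IsUnit (b i)) :
    ⊤ ≤ pt k b i hi ⁻¹ᵁ Dp N k i := by
  rw [Dp, preimage_basicOpen b i hi (X_mem N k i) Nat.one_pos, Scheme.basicOpen_of_isUnit _ (isUnit_evΓ k hi)]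

theorem pt_ratio (b : Fin (N + 1) → B) (i : Fin (N + 1)) (hi : IsUnit (b i))
    (h : ⊤ ≤ pt k b i hi ⁻¹ᵁ Dp N k i) (l : Fin (N + 1)) (w : B) (hw : w * b i = b l) :
    (pt k b i hi).appLE (Dp N k i) ⊤ h (ratio N k i l) = (Scheme.ΓSpecIso (CommRingCat.of B)).inv w := by
  refine (pt_appLE b i hi h _).trans ?_
  congr 1
  apply hi.mul_right_cancel
  rw [hw]
  have h1 := awayLift_mk (polyGrading N k) (ev k b) (isUnit_ev k hi) (X_mem N k i) 1 (MvPolynomial.X l)
    (by rw [one_smul]; exact X_mem N k l)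
  rw [ev_X, ev_X, pow_one] at h1
  exact h1

end K354.PtRatio
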