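import Groth.Agent.Curves.K354.PtRatio
import Groth.Agent.Fdesc.LocGenPullback

/-!
# Homogeneous coordinates from sections
-/

set_option autoImplicit false
universe u

open CategoryTheory AlgebraicGeometry IsLocalRing TopologicalSpace

namespace K354.SecCoord

open CohB1 K329.Pt K354.PtRatio
open Groth.Agent Groth.Agent.CurvesC.ProjSpaceBasic Groth.Agent.Fdesc.LocGen

local notation "Sp" k:max => Spec (CommRingCat.of k)

/-- the value of a function at a point of the spectrum of a stalk. -/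
theorem appLE_eq {S : Scheme.{u}} {x : S} {U : S.Opens} (hx : x ∈ U) {L : Type u} [CommRing L]
    (ψ : S.presheaf.stalk x →+* L) (f : Sp L ⟶ S) (hf : Spec.map (CommRingCat.ofHom ψ) ≫ S.fromSpecStalk x = f)
    (h : ⊤ ≤ f ⁻¹ᵁ U) (a : Γ(S, U)) :
    f.appLE U ⊤ h a = (Scheme.ΓSpecIso (CommRingCat.of L)).inv (ψ (S.presheaf.germ U x hx a)) := by
  subst hf
  have h1 : (Spec.map (CommRingCat.ofHom ψ) ≫ S.fromSpecStalk x).appLE U ⊤ h =
      S.presheaf.germ U x hx ≫ CommRingCat.ofHom ψ ≫ (Scheme.ΓSpecIso (CommRingCat.of L)).inv := by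
    rw [Scheme.Hom.comp_appLE, Scheme.fromSpecStalk_app hx, Category.assoc, Category.assoc, Scheme.Hom.map_appLE,
      Scheme.ΓSpecIso_inv_naturality]
    exact congrArg (fun z => S.presheaf.germ U x hx ≫ (Scheme.ΓSpecIso (S.presheaf.stalk x)).inv ≫ z)
      (Scheme.Hom.app_eq_appLE (Spec.map (CommRingCat.ofHom ψ)) (U := ⊤)).symm
  rw [h1]
  rfl

/-- sections and homogeneous coordinates. -/
theorem isCoord {k : Type u} [Field k] {S : Scheme.{u}} (s : S ⟶ Sp k) {N : ℕ} (V : S.Opens)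
    (g : V.toScheme ⟶ ProjSpace N k) (hg : g ≫ ProjSpace.toSpec N k = V.ι ≫ s) (M : S.Modules)
    (ρ : (Scheme.Modules.pullback V.ι).obj M ≅ (Scheme.Modules.pullback g).obj (Twist.twistProjSpace N k 1))
    (t : Fin (N + 1) → Γ(M, ⊤)) (ht : ∀ l, ρ.hom.app ⊤ (pullTop V.ι (t l)) = pullTop g (sec (T N k l) ⊤))
    (x : S) (U : S.Opens) (hx : x ∈ U) (e : Γ(M, U)) (he : IsGen e) (a : Fin (N + 1) → Γ(S, U))
    (ha : ∀ l, res M le_top (t l) = a l • e)
    (L : Type u) [Field L] [Algebra k L] (m : Sp L ⟶ V) (hm : m ≫ V.ι ≫ s = Spec.map (CommRingCat.ofHom (algebraMap k L)))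
    (ψ : S.presheaf.stalk x →+* L) (hψ : Spec.map (CommRingCat.ofHom ψ) ≫ S.fromSpecStalk x = m ≫ V.ι) :
    ∃ (j : Fin (N + 1)) (hj : IsUnit (ψ (S.presheaf.germ U x hx (a j)))),
      m ≫ g = pt k (fun l => ψ (S.presheaf.germ U x hx (a l))) j hj := by
  obtain ⟨b, j, hj, hmg⟩ := exists_pt k (m ≫ g) (by rw [Category.assoc, hg, hm])
  have hbj : b j ≠ 0 := hj.ne_zero
  let q : Fin (N + 1) → L := fun l => b l / b j
  let A : V.toScheme.Opens := V.ι ⁻¹ᵁ U
  let B : V.toScheme.Opens := g ⁻¹ᵁ Dp N k j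
  let W : V.toScheme.Opens := A ⊓ B
  have hA : ⊤ ≤ (m ≫ V.ι) ⁻¹ᵁ U := by
    intro p _
    change (m ≫ V.ι) p ∈ U
    rw [← hψ]
    have h1 : (S.fromSpecStalk x) ((Spec.map (CommRingCat.ofHom ψ)) p) ∈ Set.range (S.fromSpecStalk x) := ⟨_, rfl⟩
    rw [Scheme.range_fromSpecStalk] at h1
    exact h1.mem_open U.2 hx
  have hB : ⊤ ≤ (m ≫ g) ⁻¹ᵁ Dp N k j := by
    rw [hmg]
    exact top_le b j hj
  have hW : ⊤ ≤ m ⁻¹ᵁ W := le_inf hA hB
  -- values
  have e1 : ∀ l, m.appLE W ⊤ hW (ores inf_le_left (V.ι.app U (a l))) =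
      (Scheme.ΓSpecIso (CommRingCat.of L)).inv (ψ (S.presheaf.germ U x hx (a l))) := by
    intro l
    rw [← appLE_eq hx ψ _ hψ hA (a l), Scheme.Hom.comp_appLE, CommRingCat.comp_apply, ores]
    change (V.toScheme.presheaf.map _ ≫ m.appLE W ⊤ hW) (V.ι.app U (a l)) = _
    rw [Scheme.Hom.map_appLE]
  have e2 : ∀ l, m.appLE W ⊤ hW (ores inf_le_right (g.app (Dp N k j) (ratio N k j l))) =
      (Scheme.ΓSpecIso (CommRingCat.of L)).inv (q l) := by
    intro l
    have h1 : ∀ (f : Spec (CommRingCat.of L) ⟶ ProjSpace N k) (_ : f = pt k b j hj) (h : ⊤ ≤ f ⁻¹ᵁ Dp N k j),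
        f.appLE (Dp N k j) ⊤ h (ratio N k j l) = (Scheme.ΓSpecIso (CommRingCat.of L)).inv (q l) := by
      rintro _ rfl h
      exact pt_ratio b j hj h l (q l) (div_mul_cancel₀ _ hbj)
    rw [← h1 _ hmg hB, Scheme.Hom.comp_appLE, CommRingCat.comp_apply, ores]
    change (V.toScheme.presheaf.map _ ≫ m.appLE W ⊤ hW) (g.app (Dp N k j) (ratio N k j l)) = _
    rw [Scheme.Hom.map_appLE]
  -- the two generators
  let E : Γ((Scheme.Modules.pullback g).obj (Twist.twistProjSpace N k 1), W) :=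
    res _ (inf_le_left : W ≤ A) (ρ.hom.app A (pullSec V.ι e))
  have hE : IsGen E := ((he.pullSec V.ι).app ρ.hom).res _
  have hT : ∀ l, res _ (le_top : W ≤ ⊤) (pullTop g (sec (T N k l) ⊤)) =
      ores (inf_le_left : W ≤ A) (V.ι.app U (a l)) • E := by
    intro l
    rw [← ht l, ← res_res _ (le_top : A ≤ ⊤) (inf_le_left : W ≤ A), ← app_res]
    have h1 : res ((Scheme.Modules.pullback V.ι).obj M) (le_top : A ≤ ⊤) (pullTop V.ι (t l)) =
        pullSec V.ι (res M (le_top : U ≤ ⊤) (t l)) := res_pullSec V.ι (le_top : U ≤ ⊤) (t l)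
    rw [h1, ha, pullSec_smul]
    have h2 := Scheme.Modules.Hom.app_smul ρ.hom (V.ι.app U (a l)) (pullSec V.ι e)
    rw [h2, res_smul]
  have hT' : ∀ l, res _ (le_top : W ≤ ⊤) (pullTop g (sec (T N k l) ⊤)) =
      res _ (inf_le_right : W ≤ B) (pullSec g (sec (T N k l) (Dp N k j))) := by
    intro l
    rw [← res_res _ (le_top : B ≤ ⊤) (inf_le_right : W ≤ B)]
    have h1 : res ((Scheme.Modules.pullback g).obj (Twist.twistProjSpace N k 1)) (le_top : B ≤ ⊤)
        (pullTop g (sec (T N k l) ⊤)) = pullSec g (res _ (le_top : Dp N k j ≤ ⊤) (sec (T N k l) ⊤)) :=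
      res_pullSec g (le_top : Dp N k j ≤ ⊤) (sec (T N k l) ⊤)
    rw [h1, res_sec]
  have hF : IsGen (res _ (inf_le_right : W ≤ B) (pullSec g (sec (T N k j) (Dp N k j)))) :=
    IsGen.res (IsGen.pullSec g (fun V h => (isGen_T N k j) V h)) _
  have hr : ∀ l, pullSec g (sec (T N k l) (Dp N k j)) =
      g.app (Dp N k j) (ratio N k j l) • pullSec g (sec (T N k j) (Dp N k j)) := by
    intro l
    rw [← pullSec_smul]
    congr 1
    exact (ratio_smul N k j l).symm
  have key : ∀ l, ores (inf_le_left : W ≤ A) (V.ι.app U (a l)) =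
      ores (inf_le_right : W ≤ B) (g.app (Dp N k j) (ratio N k j l)) * ores (inf_le_left : W ≤ A) (V.ι.app U (a j)) := by
    intro l
    apply hE.ext
    rw [← hT, hT', hr, res_smul, ← hT', hT, smul_smul]
  have hu : IsUnit (ores (inf_le_left : W ≤ A) (V.ι.app U (a j))) := by
    apply hE.isUnit_of_smul
    rw [← hT, hT']
    exact hF
  have hinj : Function.Injective (Scheme.ΓSpecIso (CommRingCat.of L)).inv :=
    (ConcreteCategory.bijective_of_isIso (Scheme.ΓSpecIso (CommRingCat.of L)).inv).1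
  have key2 : ∀ l, ψ (S.presheaf.germ U x hx (a l)) = q l * ψ (S.presheaf.germ U x hx (a j)) := by
    intro l
    apply hinj
    rw [map_mul, ← e1, ← e1, ← e2, ← map_mul, ← key]
  have hu2 : IsUnit (ψ (S.presheaf.germ U x hx (a j))) := by
    have h1 := hu.map (m.appLE W ⊤ hW).hom
    have h2 : IsUnit ((Scheme.ΓSpecIso (CommRingCat.of L)).inv (ψ (S.presheaf.germ U x hx (a j)))) := by
      rw [← e1 j]; exact h1
    have h3 := h2.map (Scheme.ΓSpecIso (CommRingCat.of L)).hom.hom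
    have h4 : (Scheme.ΓSpecIso (CommRingCat.of L)).hom
        ((Scheme.ΓSpecIso (CommRingCat.of L)).inv (ψ (S.presheaf.germ U x hx (a j)))) =
        ψ (S.presheaf.germ U x hx (a j)) := by
      rw [← CommRingCat.comp_apply, Iso.inv_hom_id]
      rfl
    rw [← h4]
    exact h3
  refine ⟨j, hu2, ?_⟩
  rw [hmg]
  symm
  refine pt_smul k (ψ (S.presheaf.germ U x hx (a j)) / b j) ?_ b j hj _ (fun l => ?_) j hu2
  · exact isUnit_iff_ne_zero.2 (div_ne_zero hu2.ne_zero hbj)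
  · rw [key2 l]
    change b l / b j * _ = _
    field_simp

end K354.SecCoord
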