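import Groth.Agent.S0234
import Groth.Agent.S7885
import Groth.Agent.Models.H38.SecDiv
import Groth.Agent.Fdesc.LocGenPullback
import Groth.Agent.Divis.CartierStalk

/-!
# Extension and divisors of sections of invertible modules
-/

set_option autoImplicit false
universe u

open CategoryTheory AlgebraicGeometry IsLocalRing TopologicalSpace

namespace K354.SecExt

open Groth.Agent Groth.Agent.Fdesc.LocGen

variable {S : Scheme.{u}}

/-- Hartogs for sections of the pulled back module. -/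
theorem exists_ext [IsLocallyNoetherian S]
    (hT : ∀ x : S, IsDomain (S.presheaf.stalk x) ∧ IsIntegrallyClosed (S.presheaf.stalk x))
    (V : S.Opens) (hV : ∀ x : S, x ∉ (V : Set S) → 2 ≤ ringKrullDim (S.presheaf.stalk x))
    {M : S.Modules} (hM : PicF.IsInvertible M) (m' : Γ((Scheme.Modules.pullback V.ι).obj M, ⊤)) :
    ∃ t : Γ(M, ⊤), pullTop V.ι t = m' := by
  let φ : M.restrict V.ι ⟶ (Scheme.Modules.pullback V.ι).obj M :=
    (Scheme.Modules.restrictFunctorIsoPullback V.ι).hom.app M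
  have hφ : IsIso φ := inferInstance
  have h1 : φ.app ⊤ ((inv φ).app ⊤ m') = m' := by
    rw [← ConcreteCategory.comp_apply, ← Scheme.Modules.Hom.comp_app, IsIso.inv_hom_id]
    rfl
  obtain ⟨m3, hm3⟩ := (toRestrict (M := M) V.ι (U := ⊤)).surjective ((inv φ).app ⊤ m')
  have hle : V.ι ''ᵁ ⊤ ≤ (⊤ : S.Opens) := le_top
  obtain ⟨t, ht⟩ := (S7885.hartogs_le hT V hV M hM ⊤ (V.ι ''ᵁ ⊤) hle (by simp)).2 m3
  refine ⟨t, ?_⟩
  rw [← h1, ← hm3, ← ht]
  exact (restrictFunctorIsoPullback_hom_app V.ι (U := ⊤) t).symm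

/-- Restriction to a nonempty open is injective on sections of an invertible module on an integral scheme. -/
theorem res_injective [IsIntegral S] {M : S.Modules} (hM : PicF.IsInvertible M) {U V : S.Opens} (h : V ≤ U)
    (hV : (V : Set S).Nonempty) : Function.Injective (res M h) := by
  rw [injective_iff_map_eq_zero]
  intro t ht
  have h0 : ∀ x : U, ∃ (W : S.Opens) (e : Γ(M, W)), x.1 ∈ W ∧ IsGen e := by
    intro x
    obtain ⟨W, e, hx, he⟩ := (isInvertible_iff M).1 hM x.1
    exact ⟨W, e, hx, he⟩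
  choose W e hxW he using h0
  refine res_ext M (fun x : U => W x ⊓ U) (fun x => inf_le_right) (fun x hx => Opens.mem_iSup.2 ⟨⟨x, hx⟩, hxW ⟨x, hx⟩, hx⟩)
    ?_
  intro x
  rw [map_zero]
  obtain ⟨a, ha⟩ := ((he x).res (inf_le_left : W x ⊓ U ≤ W x)).exists_eq (res M inf_le_right t)
  have hne : ((W x ⊓ U : S.Opens) : Set S).Nonempty := ⟨x.1, hxW x, x.2⟩
  have h1 : ores (inf_le_left : (W x ⊓ U) ⊓ V ≤ W x ⊓ U) a = 0 := by
    apply (((he x).res (inf_le_left : W x ⊓ U ≤ W x)).res (inf_le_left : (W x ⊓ U) ⊓ V ≤ W x ⊓ U)).ext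
    rw [zero_smul, ← res_smul, ← ha, res_res]
    have h2 := congrArg (res M (inf_le_right : (W x ⊓ U) ⊓ V ≤ V)) ht
    rw [res_res, map_zero] at h2
    exact h2
  have h2 : Function.Injective (ores (inf_le_left : (W x ⊓ U) ⊓ V ≤ W x ⊓ U)) := by
    have h3 : ((W x ⊓ U) ⊓ V : Set S).Nonempty :=
      nonempty_preirreducible_inter (W x ⊓ U).2 V.2 hne hV
    have : Nonempty ((W x ⊓ U) ⊓ V : S.Opens) := ⟨⟨_, h3.some_mem⟩⟩
    exact map_injective_of_isIntegral S _
  have h4 : a = 0 := h2 (by rw [h1, map_zero])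
  rw [ha, h4, zero_smul]

/-- The divisor of a section (`⊥` if the section is zero). -/
theorem exists_div [IsIntegral S] {M : S.Modules} (hM : PicF.IsInvertible M) (t : Γ(M, ⊤)) :
    ∃ D : S.IdealSheafData, (D ≠ ⊥ → BlowUp.IsEffCartierIdeal D ∧ ClSub.IsInverseOf M (ClSub.idealMod D)) ∧
      ∀ (U : S.affineOpens) (e : Γ(M, U.1)) (a : Γ(S, U.1)), IsGen e →
        res M le_top t = a • e → D.ideal U = Ideal.span {a} := by
  by_cases ht : t = 0
  · refine ⟨⊥, fun h => absurd rfl h, fun U e a he ha => ?_⟩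
    have h1 : a = 0 := he.ext (by rw [← ha, ht, map_zero, zero_smul])
    rw [h1]
    simp
  · obtain ⟨D, h1, h2, h3⟩ := Models.H38.SecDiv.exists_divisor hM t (fun U e a he ha => by
      by_cases hU : (U.1 : Set S).Nonempty
      · have : Nonempty U.1 := ⟨⟨_, hU.some_mem⟩⟩
        rw [mem_nonZeroDivisors_iff_ne_zero]
        rintro rfl
        apply ht
        apply res_injective hM (le_top : U.1 ≤ ⊤) hU
        rw [ha, zero_smul, map_zero]
      · have h5 : U.1 = ⊥ := by
          ext x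
          simp only [Set.not_nonempty_iff_eq_empty] at hU
          rw [hU]
          rfl
        have : Subsingleton Γ(S, U.1) := by
          rw [h5]
          infer_instance
        rw [mem_nonZeroDivisors_iff]
        exact ⟨fun x _ => Subsingleton.elim _ _, fun x _ => Subsingleton.elim _ _⟩)
    exact ⟨D, fun _ => ⟨h1, h2⟩, h3⟩

end K354.SecExt
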