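import Groth.Agent.Curves.K329.Plan510
import Groth.Agent.Curves.K354.SecCoord
import Groth.Agent.Curves.K354.SecExt
import Groth.Agent.S1535
import Groth.Agent.S2821

/-!
# S16510, task A: rational maps to projective space from sections of an invertible module
-/

set_option autoImplicit false
universe u

open CategoryTheory AlgebraicGeometry IsLocalRing TopologicalSpace

namespace K354.Sections510

open Groth.Agent Groth.Agent.CurvesC Groth.Agent.CurvesC.ProjSpaceBasic Groth.Agent.Fdesc.LocGen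
open Groth.Agent.Divis.CartierBasic

local notation "Sp" k:max => Spec (CommRingCat.of k)

theorem fromSpecStalk_comp {k : Type u} [Field k] {X : Scheme.{u}} (g : X ⟶ Sp k) (x : X) (U : X.Opens) (hx : x ∈ U) :
    X.fromSpecStalk x ≫ g = Spec.map (CommRingCat.ofHom (ProjMap.struct g U) ≫ X.presheaf.germ U x hx) := by
  have h0 : CommRingCat.ofHom (ProjMap.struct g U) = (Scheme.ΓSpecIso (CommRingCat.of k)).inv ≫ g.appTop ≫
      X.presheaf.map (homOfLE (le_top : U ≤ ⊤)).op := rfl
  have h1 : (X.fromSpecStalk x).appTop = X.presheaf.germ ⊤ x trivial ≫ (Scheme.ΓSpecIso (X.presheaf.stalk x)).inv := by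
    rw [Scheme.Hom.appTop, Scheme.fromSpecStalk_app (x := x) (U := ⊤) trivial]
    have h2 : (Spec (X.presheaf.stalk x)).presheaf.map
        (homOfLE (le_top : (X.fromSpecStalk x) ⁻¹ᵁ ⊤ ≤ ⊤)).op = 𝟙 _ := CategoryTheory.Functor.map_id _ _
    rw [h2]
    exact congrArg (fun z => X.presheaf.germ ⊤ x trivial ≫ z) (Category.comp_id _)
  apply ext_of_isAffine
  rw [Scheme.Hom.comp_appTop, h1, h0, Category.assoc, Category.assoc, TopCat.Presheaf.germ_res]
  have h3 := Scheme.ΓSpecIso_inv_naturality ((Scheme.ΓSpecIso (CommRingCat.of k)).inv ≫ g.appTop ≫ X.presheaf.germ ⊤ x trivial)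
  rw [← cancel_epi (Scheme.ΓSpecIso (CommRingCat.of k)).inv, ← h3]
  simp

theorem sig_eq {k : Type u} [Field k] {X : Scheme.{u}} (g : X ⟶ Sp k) (x : X) (U : X.Opens) (hx : x ∈ U) (c : k) :
    K329.Plan510.sig g x c = X.presheaf.germ U x hx (ProjMap.struct g U c) := by
  have h1 : (Spec.preimage (X.fromSpecStalk x ≫ g) : CommRingCat.of k ⟶ X.presheaf.stalk x) =
      CommRingCat.ofHom (ProjMap.struct g U) ≫ X.presheaf.germ U x hx := by
    apply Spec.map_injective
    rw [Spec.map_preimage, fromSpecStalk_comp g x U hx]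
  rw [K329.Plan510.sig, h1]
  rfl

theorem sections (k : Type u) [Field k] : K329.Plan510.Sections k := by
  intro S s _ _ _ N V hV g hg
  letI : S.Over (Sp k) := ⟨s⟩
  have hs : Smooth (S ↘ Sp k) := ‹Smooth s›
  have hN : IsLocallyNoetherian S := LocallyOfFiniteType.isLocallyNoetherian s
  have hreg : ∀ x : S, IsRegularLocalRing (S.presheaf.stalk x) := S1535.result k S
  have hufd : ∀ x : S, IsDomain (S.presheaf.stalk x) ∧ UniqueFactorizationMonoid (S.presheaf.stalk x) := fun x => by
    have := hreg x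
    exact S2821.result _
  have hT : ∀ x : S, IsDomain (S.presheaf.stalk x) ∧ IsIntegrallyClosed (S.presheaf.stalk x) := fun x => by
    obtain ⟨h1, h2⟩ := hufd x
    exact ⟨h1, inferInstance⟩
  -- the line bundle
  have hO : PicF.IsInvertible (Twist.twistProjSpace N k 1) := by
    rw [isInvertible_iff]
    intro y
    have h1 : y ∈ ⨆ i, Dp N k i := by rw [iSup_Dp]; trivial
    obtain ⟨i, hi⟩ := Opens.mem_iSup.1 h1
    exact ⟨Dp N k i, sec (T N k i) (Dp N k i), hi, fun V h => (isGen_T N k i) V h⟩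
  have hL : PicF.IsInvertible ((Scheme.Modules.pullback g).obj (Twist.twistProjSpace N k 1)) :=
    isInvertible_pullback g hO
  obtain ⟨M, hM, ⟨ρ'⟩⟩ := S0234.result S V _ hL (fun x _ => (hufd x).2)
  let ρ : (Scheme.Modules.pullback V.ι).obj M ≅ (Scheme.Modules.pullback g).obj (Twist.twistProjSpace N k 1) :=
    ((Scheme.Modules.restrictFunctorIsoPullback V.ι).app M).symm ≪≫ ρ'
  -- sections
  have ht : ∀ l, ∃ t : Γ(M, ⊤), ρ.hom.app ⊤ (pullTop V.ι t) = pullTop g (sec (T N k l) ⊤) := by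
    intro l
    obtain ⟨t, ht⟩ := K354.SecExt.exists_ext hT V hV hM (ρ.inv.app ⊤ (pullTop g (sec (T N k l) ⊤)))
    refine ⟨t, ?_⟩
    rw [ht, ← ConcreteCategory.comp_apply, ← Scheme.Modules.Hom.comp_app, Iso.inv_hom_id]
    rfl
  choose t ht using ht
  let tc : (Fin (N + 1) → k) → Γ(M, ⊤) := fun c => ∑ l, ProjMap.struct s ⊤ (c l) • t l
  choose D hD1 hD2 using fun c => K354.SecExt.exists_div hM (tc c)
  refine ⟨M, hM, D, ⟨ρ⟩, hD1, ?_⟩
  intro x
  obtain ⟨U0, e0, hx0, he0⟩ := (isInvertible_iff M).1 hM x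
  obtain ⟨U, hxU, hU⟩ := Groth.Agent.Dix.IdealModCartier.exists_affine_mem_le U0 x hx0
  let e := res M hU e0
  have he : IsGen e := he0.res hU
  choose a ha using fun l => he.exists_eq (res M (le_top : U.1 ≤ ⊤) (t l))
  refine ⟨fun l => S.presheaf.germ U.1 x hxU (a l), ?_, ?_⟩
  · intro c
    have h1 : res M le_top (tc c) = (∑ l, ProjMap.struct s U.1 (c l) * a l) • e := by
      rw [map_sum, Finset.sum_smul]
      refine Finset.sum_congr rfl fun l _ => ?_
      rw [res_smul, ha, smul_smul]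
      congr 2
      exact ProjMap.map_struct s (le_top : U.1 ≤ ⊤) (c l)
    rw [stalkIdeal_eq _ U hxU, hD2 c U e _ he h1, Ideal.map_span, Set.image_singleton]
    congr 2
    rw [map_sum]
    refine Finset.sum_congr rfl fun l _ => ?_
    rw [map_mul, sig_eq s x U.1 hxU]
  · intro L _ _ m hm ψ hψ
    exact K354.SecCoord.isCoord s V g hg M ρ t ht x U.1 hxU e he a ha L m hm ψ hψ

end K354.Sections510
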