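import Groth.Agent.Curves.K756.FamDef
import Groth.Agent.VarietyB.ResMap

/-!
# Homomorphisms between local rings as algebra homomorphisms

For `k`-schemes, `sg u hu h : O_{Z,z} →ₐ[k] O_{Y,y}` for `u : Y ⟶ Z` and `u y ⤳ z`, characterized by its spectrum;
`ta v hv y : A →ₐ[k] O_{Y,y}` for `v : Y ⟶ Spec A`; `th` their common extension `O_{Z,z} ⊗ A →ₐ[k] O_{Y,y}`.
-/

set_option autoImplicit false
set_option backward.isDefEq.respectTransparency false
universe u
open CategoryTheory CategoryTheory.Limits AlgebraicGeometry TopologicalSpace Opposite TensorProduct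

noncomputable section

namespace K354.StkHom

attribute [local instance] Curv2.stalkAlgebra

variable {k : Type u} [Field k]

theorem spec_algebraMap (Y : Scheme.{u}) [Y.Over (Spec (CommRingCat.of k))] (y : Y) :
    Spec.map (CommRingCat.ofHom (algebraMap k (Y.presheaf.stalk y))) = Y.fromSpecStalk y ≫ (Y ↘ Spec (CommRingCat.of k)) :=
  Groth.Agent.VarietyB.ResMap.specMap_stalkMap k Y y

variable {Y Z W : Scheme.{u}} [Y.Over (Spec (CommRingCat.of k))] [Z.Over (Spec (CommRingCat.of k))]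
  [W.Over (Spec (CommRingCat.of k))]

section Sg

variable (u : Y ⟶ Z) (hu : u ≫ (Z ↘ Spec (CommRingCat.of k)) = Y ↘ Spec (CommRingCat.of k)) {y : Y} {z : Z}
  (h : u y ⤳ z)

omit [Y.Over (Spec (CommRingCat.of k))] [Z.Over (Spec (CommRingCat.of k))] in
theorem spec_raw : Spec.map (Z.presheaf.stalkSpecializes h ≫ u.stalkMap y) ≫ Z.fromSpecStalk z =
    Y.fromSpecStalk y ≫ u := by
  rw [Spec.map_comp, Category.assoc, Scheme.SpecMap_stalkSpecializes_fromSpecStalk,
    Scheme.SpecMap_stalkMap_fromSpecStalk]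

/-- The homomorphism of local rings attached to `u : Y ⟶ Z` and a specialization `u y ⤳ z`. -/
def sg : Z.presheaf.stalk z →ₐ[k] Y.presheaf.stalk y :=
  { (Z.presheaf.stalkSpecializes h ≫ u.stalkMap y).hom with
    commutes' := by
      intro r
      have h1 : CommRingCat.ofHom (algebraMap k (Z.presheaf.stalk z)) ≫ (Z.presheaf.stalkSpecializes h ≫ u.stalkMap y) =
          CommRingCat.ofHom (algebraMap k (Y.presheaf.stalk y)) := by
        apply Spec.map_injective
        rw [Spec.map_comp, spec_algebraMap, spec_algebraMap, ← Category.assoc, spec_raw, Category.assoc, hu]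
      exact congrArg (fun g => CommRingCat.Hom.hom g r) h1 }

theorem spec_sg : Spec.map (CommRingCat.ofHom (sg u hu h : Z.presheaf.stalk z →+* Y.presheaf.stalk y)) ≫
    Z.fromSpecStalk z = Y.fromSpecStalk y ≫ u :=
  spec_raw u h

theorem eq_sg (φ : Z.presheaf.stalk z →ₐ[k] Y.presheaf.stalk y)
    (hφ : Spec.map (CommRingCat.ofHom (φ : Z.presheaf.stalk z →+* Y.presheaf.stalk y)) ≫ Z.fromSpecStalk z =
      Y.fromSpecStalk y ≫ u) : φ = sg u hu h := by
  have h1 := hφ.trans (spec_sg u hu h).symm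
  rw [cancel_mono] at h1
  have h2 := Spec.map_injective h1
  apply AlgHom.ext
  intro x
  exact congrArg (fun g => CommRingCat.Hom.hom g x) h2

theorem sg_comp (v : W ⟶ Y) (hv : v ≫ (Y ↘ Spec (CommRingCat.of k)) = W ↘ Spec (CommRingCat.of k)) {w : W}
    (h' : v w ⤳ y) (h'' : (v ≫ u) w ⤳ z) :
    (sg v hv h').comp (sg u hu h) = sg (v ≫ u) (by rw [Category.assoc, hu, hv]) h'' := by
  apply eq_sg
  have h1 : CommRingCat.ofHom (((sg v hv h').comp (sg u hu h) : Z.presheaf.stalk z →ₐ[k] W.presheaf.stalk w) :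
      Z.presheaf.stalk z →+* W.presheaf.stalk w) =
      CommRingCat.ofHom (sg u hu h : Z.presheaf.stalk z →+* Y.presheaf.stalk y) ≫
        CommRingCat.ofHom (sg v hv h' : Y.presheaf.stalk y →+* W.presheaf.stalk w) := rfl
  rw [h1, Spec.map_comp, Category.assoc, spec_sg, ← Category.assoc, spec_sg, Category.assoc]

theorem isLocalHom_sg (hz : u y = z) : IsLocalHom (sg u hu (hz ▸ specializes_rfl : u y ⤳ z)) := by
  subst hz
  constructor
  intro a ha
  have h1 : (sg u hu (specializes_rfl : u y ⤳ u y)) a = (u.stalkMap y).hom a := by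
    change (Z.presheaf.stalkSpecializes _ ≫ u.stalkMap y).hom a = _
    rw [TopCat.Presheaf.stalkSpecializes_refl, Category.id_comp]
  rw [h1] at ha
  exact isUnit_of_map_unit (u.stalkMap y).hom a ha

end Sg

/-- The inclusion in the function field. -/
theorem spAlg_eq [IsIntegral Y] (y : Y) :
    K756.FamDef.spAlg k Y y = sg (𝟙 Y) (Category.id_comp _)
      ((genericPoint_spec Y).specializes (Set.mem_univ y) : (𝟙 Y : Y ⟶ Y) (genericPoint Y) ⤳ y) := by
  apply eq_sg
  rw [Category.comp_id]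
  exact Scheme.SpecMap_stalkSpecializes_fromSpecStalk ((genericPoint_spec Y).specializes (Set.mem_univ y))

section Ta

variable {A : Type u} [CommRing A] [Algebra k A] (v : Y ⟶ Spec (CommRingCat.of A))
  (hv : v ≫ Spec.map (CommRingCat.ofHom (algebraMap k A)) = Y ↘ Spec (CommRingCat.of k)) (y : Y)

/-- The homomorphism to the local ring attached to `v : Y ⟶ Spec A`. -/
def ta : A →ₐ[k] Y.presheaf.stalk y :=
  { (Spec.preimage (Y.fromSpecStalk y ≫ v) : CommRingCat.of A ⟶ Y.presheaf.stalk y).hom with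
    commutes' := by
      intro r
      have h1 : CommRingCat.ofHom (algebraMap k A) ≫ (Spec.preimage (Y.fromSpecStalk y ≫ v)) =
          CommRingCat.ofHom (algebraMap k (Y.presheaf.stalk y)) := by
        apply Spec.map_injective
        rw [Spec.map_comp, spec_algebraMap, Spec.map_preimage, Category.assoc, hv]
      exact congrArg (fun g => CommRingCat.Hom.hom g r) h1 }

theorem spec_ta : Spec.map (CommRingCat.ofHom (ta v hv y : A →+* Y.presheaf.stalk y)) = Y.fromSpecStalk y ≫ v :=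
  Spec.map_preimage _

theorem eq_ta (φ : A →ₐ[k] Y.presheaf.stalk y)
    (hφ : Spec.map (CommRingCat.ofHom (φ : A →+* Y.presheaf.stalk y)) = Y.fromSpecStalk y ≫ v) : φ = ta v hv y := by
  have h2 := Spec.map_injective (hφ.trans (spec_ta v hv y).symm)
  apply AlgHom.ext
  intro x
  exact congrArg (fun g => CommRingCat.Hom.hom g x) h2

theorem ta_comp (g : W ⟶ Y) (hg : g ≫ (Y ↘ Spec (CommRingCat.of k)) = W ↘ Spec (CommRingCat.of k)) {w : W}
    (h : g w ⤳ y) : (sg g hg h).comp (ta v hv y) = ta (g ≫ v) (by rw [Category.assoc, hv, hg]) w := by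
  apply eq_ta
  have h1 : CommRingCat.ofHom (((sg g hg h).comp (ta v hv y) : A →ₐ[k] W.presheaf.stalk w) :
      A →+* W.presheaf.stalk w) =
      CommRingCat.ofHom (ta v hv y : A →+* Y.presheaf.stalk y) ≫
        CommRingCat.ofHom (sg g hg h : Y.presheaf.stalk y →+* W.presheaf.stalk w) := rfl
  rw [h1, Spec.map_comp, spec_ta, ← Category.assoc, spec_sg, Category.assoc]

variable (u : Y ⟶ Z) (hu : u ≫ (Z ↘ Spec (CommRingCat.of k)) = Y ↘ Spec (CommRingCat.of k)) {y} {z : Z}
  (h : u y ⤳ z)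

/-- The homomorphism `O_{Z,z} ⊗ A → O_{Y,y}` attached to `Y ⟶ Z` and `Y ⟶ Spec A`. -/
def th : (Z.presheaf.stalk z ⊗[k] A) →ₐ[k] Y.presheaf.stalk y :=
  Algebra.TensorProduct.lift (sg u hu h) (ta v hv y) fun _ _ => mul_comm _ _

theorem th_tmul (x : Z.presheaf.stalk z) (a : A) : th v hv u hu h (x ⊗ₜ a) = sg u hu h x * ta v hv y a := rfl

theorem th_left (x : Z.presheaf.stalk z) : th v hv u hu h (x ⊗ₜ (1 : A)) = sg u hu h x := by
  rw [th_tmul, map_one, mul_one]

theorem th_right (a : A) : th v hv u hu h ((1 : Z.presheaf.stalk z) ⊗ₜ a) = ta v hv y a := by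
  rw [th_tmul, map_one, one_mul]

theorem sg_comp_th (g : W ⟶ Y) (hg : g ≫ (Y ↘ Spec (CommRingCat.of k)) = W ↘ Spec (CommRingCat.of k)) {w : W}
    (h' : g w ⤳ y) (h'' : (g ≫ u) w ⤳ z) : (sg g hg h').comp (th v hv u hu h) =
      th (g ≫ v) (by rw [Category.assoc, hv, hg]) (g ≫ u) (by rw [Category.assoc, hu, hg]) h'' := by
  apply Algebra.TensorProduct.ext
  · apply AlgHom.ext
    intro x
    change sg g hg h' (th v hv u hu h (x ⊗ₜ (1 : A))) = th _ _ _ _ _ (x ⊗ₜ (1 : A))
    rw [th_left, th_left, ← sg_comp u hu h g hg h' h'']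
    rfl
  · apply AlgHom.ext
    intro a
    change sg g hg h' (th v hv u hu h ((1 : Z.presheaf.stalk z) ⊗ₜ a)) = th _ _ _ _ _ ((1 : Z.presheaf.stalk z) ⊗ₜ a)
    rw [th_right, th_right, ← ta_comp v hv y g hg h']
    rfl

theorem th_extA [IsIntegral Z] (h' : u y ⤳ genericPoint Z) :
    (th v hv u hu h').comp (K756.FamDef.extA k A Z z) = th v hv u hu (h'.trans (genericPoint_specializes z)) := by
  apply Algebra.TensorProduct.ext
  · apply AlgHom.ext
    intro x
    change th v hv u hu h' (K756.FamDef.spAlg k Z z x ⊗ₜ (1 : A)) = th _ _ _ _ _ (x ⊗ₜ (1 : A))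
    rw [th_left, th_left, spAlg_eq, ← AlgHom.comp_apply, sg_comp (𝟙 Z) _ _ u hu h'
      (by rw [Category.comp_id]; exact h'.trans (genericPoint_specializes z))]
    congr 1
  · apply AlgHom.ext
    intro a
    change th v hv u hu h' (K756.FamDef.spAlg k Z z 1 ⊗ₜ a) = th _ _ _ _ _ ((1 : Z.presheaf.stalk z) ⊗ₜ a)
    rw [map_one, th_right, th_right]

theorem sg_th_apply (g : W ⟶ Y) (hg : g ≫ (Y ↘ Spec (CommRingCat.of k)) = W ↘ Spec (CommRingCat.of k)) {w : W}
    (h' : g w ⤳ y) (h'' : (g ≫ u) w ⤳ z) (x : Z.presheaf.stalk z ⊗[k] A) : sg g hg h' (th v hv u hu h x) =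
      th (g ≫ v) (by rw [Category.assoc, hv, hg]) (g ≫ u) (by rw [Category.assoc, hu, hg]) h'' x := by
  rw [← sg_comp_th v hv u hu h g hg h' h'']
  rfl

theorem th_extA_apply [IsIntegral Z] (h' : u y ⤳ genericPoint Z) (h'' : u y ⤳ z) (x : Z.presheaf.stalk z ⊗[k] A) :
    th v hv u hu h' (K756.FamDef.extA k A Z z x) = th v hv u hu h'' x :=
  congrArg (fun φ : (Z.presheaf.stalk z ⊗[k] A) →ₐ[k] Y.presheaf.stalk y => φ x)
    (th_extA (z := z) v hv u hu h')

end Ta

section Generic

variable [IsIntegral Y]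

theorem sp_sg (u : Y ⟶ Z) (hu : u ≫ (Z ↘ Spec (CommRingCat.of k)) = Y ↘ Spec (CommRingCat.of k)) {y : Y} {z : Z}
    (h : u y ⤳ z) (h' : u (genericPoint Y) ⤳ z) (x : Z.presheaf.stalk z) :
    K756.FamDef.spAlg k Y y (sg u hu h x) = sg u hu h' x := by
  have h1 : ((K756.FamDef.spAlg k Y y : Y.presheaf.stalk y →ₐ[k] Y.presheaf.stalk (genericPoint Y)).comp (sg u hu h)) =
      sg u hu h' := by
    apply eq_sg
    have h2 : CommRingCat.ofHom (((K756.FamDef.spAlg k Y y :
      Y.presheaf.stalk y →ₐ[k] Y.presheaf.stalk (genericPoint Y)).comp (sg u hu h) :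
      Z.presheaf.stalk z →ₐ[k] Y.presheaf.stalk (genericPoint Y)) :
      Z.presheaf.stalk z →+* Y.presheaf.stalk (genericPoint Y)) =
      CommRingCat.ofHom (sg u hu h : Z.presheaf.stalk z →+* Y.presheaf.stalk y) ≫
        Y.presheaf.stalkSpecializes (genericPoint_specializes y) := rfl
    rw [h2, Spec.map_comp, Category.assoc, spec_sg, ← Category.assoc, Scheme.SpecMap_stalkSpecializes_fromSpecStalk]
  rw [← h1]
  rfl

variable {A : Type u} [CommRing A] [Algebra k A] (v : Y ⟶ Spec (CommRingCat.of A))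
  (hv : v ≫ Spec.map (CommRingCat.ofHom (algebraMap k A)) = Y ↘ Spec (CommRingCat.of k))

theorem sp_ta (y : Y) (a : A) : K756.FamDef.spAlg k Y y (ta v hv y a) = ta v hv (genericPoint Y) a := by
  have h1 : ((K756.FamDef.spAlg k Y y : Y.presheaf.stalk y →ₐ[k] Y.presheaf.stalk (genericPoint Y)).comp (ta v hv y)) =
      ta v hv (genericPoint Y) := by
    apply eq_ta
    have h2 : CommRingCat.ofHom (((K756.FamDef.spAlg k Y y :
      Y.presheaf.stalk y →ₐ[k] Y.presheaf.stalk (genericPoint Y)).comp (ta v hv y) :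
      A →ₐ[k] Y.presheaf.stalk (genericPoint Y)) :
      A →+* Y.presheaf.stalk (genericPoint Y)) =
      CommRingCat.ofHom (ta v hv y : A →+* Y.presheaf.stalk y) ≫
        Y.presheaf.stalkSpecializes (genericPoint_specializes y) := rfl
    rw [h2, Spec.map_comp, spec_ta, ← Category.assoc, Scheme.SpecMap_stalkSpecializes_fromSpecStalk]
  rw [← h1]
  rfl

theorem sp_th (u : Y ⟶ Z) (hu : u ≫ (Z ↘ Spec (CommRingCat.of k)) = Y ↘ Spec (CommRingCat.of k)) {y : Y} {z : Z}
    (h : u y ⤳ z) (h' : u (genericPoint Y) ⤳ z) (x : Z.presheaf.stalk z ⊗[k] A) :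
    K756.FamDef.spAlg k Y y (th v hv u hu h x) = th v hv u hu h' x := by
  induction x with
  | zero => rw [map_zero, map_zero, map_zero]
  | add a b ha hb => rw [map_add, map_add, ha, hb, map_add]
  | tmul a b =>
    rw [th_tmul, th_tmul, map_mul, sp_sg u hu h h', sp_ta]

end Generic

end K354.StkHom
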