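import Groth.Agent.Curves.K354.StkHom
import Groth.Agent.RatCurv.K888.PPt

/-!
# Points of a closed subscheme of projective space given by equations
-/

set_option autoImplicit false
set_option backward.isDefEq.respectTransparency false
universe u
open CategoryTheory CategoryTheory.Limits AlgebraicGeometry TopologicalSpace Opposite TensorProduct

noncomputable section

namespace K354.VanPt

open Groth.Agent.VarietyB.ProjHom Groth.Agent.Sga5.ProjChart CohB1 HomogeneousLocalization
open Groth.Agent.Sga7.H132.ProjPts (chart chart_toSpec)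
open K756.FamDef K354.StkHom

attribute [local instance] Curv2.stalkAlgebra

/-- A morphism to the target of a closed immersion lifts as soon as it lifts on a dominant scheme. -/
theorem exists_lift_of_dominant {X P Z Z' : Scheme.{u}} (ι : X ⟶ P) [IsClosedImmersion ι] (l : Z ⟶ P) [IsReduced Z]
    (j : Z' ⟶ Z) [IsDominant j] (m : Z' ⟶ X) (h : m ≫ ι = j ≫ l) : ∃ l' : Z ⟶ X, l' ≫ ι = l := by
  have h1 : IsClosedImmersion (pullback.snd ι l) := inferInstance
  have h2 : Surjective (pullback.snd ι l) := by
    refine ⟨fun z => ?_⟩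
    have h3 : Set.range j ⊆ Set.range (pullback.snd ι l) := by
      rintro _ ⟨y, rfl⟩
      exact ⟨pullback.lift m j h y, by rw [← Scheme.Hom.comp_apply, pullback.lift_snd]⟩
    have h4 := closure_minimal h3 (pullback.snd ι l).isClosedEmbedding.isClosed_range
    rw [j.denseRange.closure_range] at h4
    exact h4 (Set.mem_univ z)
  have h5 := isIso_of_isClosedImmersion_of_surjective (pullback.snd ι l)
  exact ⟨inv (pullback.snd ι l) ≫ pullback.fst ι l, by
    rw [Category.assoc, pullback.condition, IsIso.inv_hom_id_assoc]⟩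

variable (k : Type u) [Field k] {X : Scheme.{u}} [X.Over (Spec (CommRingCat.of k))] [IsIntegral X]
    {N : ℕ} (ι : X ⟶ CohB1.ProjSpace N k) [IsClosedImmersion ι]

theorem exists_lift_of_van {F : Type u} [Field F] [Algebra k F] (S : Fin (N + 1) → F) (i : Fin (N + 1))
    (hi : IsUnit (S i)) (hX : ∀ G ∈ Van k ι, MvPolynomial.aeval S G = 0) :
    ∃ m : Spec (CommRingCat.of F) ⟶ X, m ≫ ι = K329.Pt.pt k S i hi := by
  obtain ⟨J, hJ⟩ := K888.PPt.exists_ideal ι i
  refine (hJ F (awayLift (polyGrading N k) (K329.Pt.ev k S) (MvPolynomial.X i) (K329.Pt.isUnit_ev k hi))).mpr ?_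
  intro z hz
  obtain ⟨d, G, hG, rfl⟩ := Away.mk_surjective (polyGrading N k) (X_mem N k i) z
  have hG' : G.IsHomogeneous d := by
    have : G ∈ polyGrading N k (d • 1) := hG
    rw [smul_eq_mul, mul_one] at this
    exact (MvPolynomial.mem_homogeneousSubmodule d G).1 this
  have h1 := awayLift_mk (polyGrading N k) (K329.Pt.ev k S) (K329.Pt.isUnit_ev k hi) (X_mem N k i) d G hG
  have hvan : MvPolynomial.X i * G ∈ Van k ι := by
    refine ⟨⟨1 + d, (MvPolynomial.isHomogeneous_X k i).mul hG'⟩, ?_⟩
    rintro x b ⟨j, hj, hb⟩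
    rw [map_mul, MvPolynomial.aeval_X]
    apply IsFractionRing.injective (X.presheaf.stalk x) X.functionField
    rw [map_zero, map_mul]
    let b' : Fin (N + 1) → X.functionField := fun l => spAlg k X x (b l)
    by_cases hb0 : b' i = 0
    · have : algebraMap (X.presheaf.stalk x) X.functionField (b i) = 0 := hb0
      rw [this, zero_mul]
    · have hbi : IsUnit (b' i) := isUnit_iff_ne_zero.mpr hb0
      have h2 : K329.Pt.pt k b' i hbi =
          Spec.map (CommRingCat.ofHom (spAlg k X x : X.presheaf.stalk x →+* X.functionField)) ≫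
            K329.Pt.pt k b j hj :=
        (K329.Pt.map_pt' k (spAlg k X x) b j hj b' (fun _ => rfl) i hbi).symm
      rw [← hb] at h2
      have h3 := (hJ X.functionField (awayLift (polyGrading N k) (K329.Pt.ev k b') (MvPolynomial.X i)
        (K329.Pt.isUnit_ev k hbi))).mp ⟨Spec.map (CommRingCat.ofHom
          (spAlg k X x : X.presheaf.stalk x →+* X.functionField)) ≫ X.fromSpecStalk x, by
            rw [Category.assoc, ← h2]; rfl⟩ _ hz
      have h4 := awayLift_mk (polyGrading N k) (K329.Pt.ev k b') (K329.Pt.isUnit_ev k hbi) (X_mem N k i) d G hG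
      rw [h3, zero_mul] at h4
      have h5 : algebraMap (X.presheaf.stalk x) X.functionField (MvPolynomial.aeval b G) = K329.Pt.ev k b' G := by
        have h6 := K329.Pt.ev_comp k (spAlg k X x) b
        exact congrArg (fun φ => φ G) h6
      rw [h5, ← h4, mul_zero]
  have h7 := hX _ hvan
  rw [map_mul, MvPolynomial.aeval_X] at h7
  have h8 : MvPolynomial.aeval S G = 0 := (mul_eq_zero.mp h7).resolve_left hi.ne_zero
  have h9 : K329.Pt.ev k S G = 0 := h8
  rw [h9] at h1
  exact (mul_eq_zero.mp h1).resolve_right (pow_ne_zero _ (K329.Pt.isUnit_ev k hi).ne_zero)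

end K354.VanPt
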